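import Groth.Agent.Lib.AzSplit29.Main

/-!
# Systems of equations over the étale site of a fixed ring
-/

set_option autoImplicit false
set_option linter.style.haveILetI false

universe u v

open TensorProduct CategoryTheory

namespace AzClass29

open Groth.Agent.Hens

variable {S : Type u} {R : Type v} [CommRing S] [CommRing R] [Algebra S R]

/-- the involution on `R ⊗ T` -/
noncomputable abbrev bar (lam : R ≃ₐ[S] R) (T : Type u) [CommRing T] [Algebra S T] : R ⊗[S] T ≃ₐ[S] R ⊗[S] T :=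
  Algebra.TensorProduct.congr lam (AlgEquiv.refl : T ≃ₐ[S] T)

/-- transition maps -/
noncomputable abbrev bc (R : Type v) [CommRing R] [Algebra S R] {T T' : Type u} [CommRing T] [Algebra S T]
    [CommRing T'] [Algebra S T'] (φ : T →ₐ[S] T') : R ⊗[S] T →ₐ[R] R ⊗[S] T' :=
  Algebra.TensorProduct.map (AlgHom.id R R) φ

theorem bar_bar (lam : R ≃ₐ[S] R) (hl : Function.Involutive lam) (T : Type u) [CommRing T] [Algebra S T]
    (x : R ⊗[S] T) : bar lam T (bar lam T x) = x := by
  induction x using TensorProduct.induction_on with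
  | zero => simp
  | tmul r t => simp [hl r]
  | add x y hx hy => simp only [map_add, hx, hy]

theorem bc_bar (lam : R ≃ₐ[S] R) {T T' : Type u} [CommRing T] [Algebra S T] [CommRing T'] [Algebra S T']
    (φ : T →ₐ[S] T') (x : R ⊗[S] T) : bc R φ (bar lam T x) = bar lam T' (bc R φ x) := by
  induction x using TensorProduct.induction_on with
  | zero => simp
  | tmul r t => simp
  | add x y hx hy => simp only [map_add, hx, hy]

theorem bc_comp {T T' T'' : Type u} [CommRing T] [Algebra S T] [CommRing T'] [Algebra S T'] [CommRing T'']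
    [Algebra S T''] (φ : T →ₐ[S] T') (ψ : T' →ₐ[S] T'') (x : R ⊗[S] T) :
    bc R (ψ.comp φ) x = bc R ψ (bc R φ x) := by
  induction x using TensorProduct.induction_on with
  | zero => simp
  | tmul r t => simp
  | add x y hx hy => simp only [map_add, hx, hy]

/-- elements of a finite product are determined by the components -/
theorem bc_pi_bijective {ι : Type*} [Fintype ι] {B : ι → Type u} [∀ i, CommRing (B i)] [∀ i, Algebra S (B i)]
    {P : Type u} [CommRing P] [Algebra S P] (e : P ≃ₐ[S] (∀ i, B i)) :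
    Function.Bijective fun (x : R ⊗[S] P) (i : ι) => bc R ((Pi.evalAlgHom S B i).comp e.toAlgHom) x := by
  classical
  let c := ((TensorProduct.congr (LinearEquiv.refl S R) e.toLinearEquiv).trans
    (TensorProduct.piRight S S R B))
  have h : (fun (x : R ⊗[S] P) (i : ι) => bc R ((Pi.evalAlgHom S B i).comp e.toAlgHom) x) = ⇑c := by
    funext x i
    induction x using TensorProduct.induction_on with
    | zero => simp
    | tmul r t => simp [c]
    | add x y hx hy => simp only [map_add, Pi.add_apply, hx, hy]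
  rw [h]
  exact c.bijective

/-- square roots exist étale locally -/
def Roots (S : Type u) [CommRing S] : Prop :=
  ∀ (S₁ : Type u) [CommRing S₁] [Algebra S S₁] [Algebra.Etale S S₁] (x : S₁ˣ),
      ∃ (S₂ : Type u) (_ : CommRing S₂) (_ : Algebra S₁ S₂) (_ : Algebra.Etale S₁ S₂)
        (_ : Module.FaithfullyFlat S₁ S₂) (y : S₂), y * y = algebraMap S₁ S₂ ↑x

section Stage

variable {S1 : Type u} [CommRing S1] [Algebra S S1] {K : Type u} [Field K] [Algebra S1 K]
  [Algebra S (Hs S1 K)] [IsScalarTower S S1 (Hs S1 K)]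

/-- to the colimit -/
noncomputable abbrev toS (i : EtNbhd S1 K) : i.toNbhd.S →ₐ[S] Hs S1 K := i.toHs.restrictScalars S

theorem exists_stage (z : R ⊗[S] Hs S1 K) :
    ∃ (i : EtNbhd S1 K) (x : R ⊗[S] i.toNbhd.S), bc R (toS i) x = z := by
  induction z using TensorProduct.induction_on with
  | zero => exact ⟨Classical.arbitrary _, 0, map_zero _⟩
  | tmul r h =>
    obtain ⟨i, y, rfl⟩ := EtNbhd.exists_toHs h
    exact ⟨i, r ⊗ₜ y, rfl⟩
  | add a b ha hb =>
    obtain ⟨i, x, rfl⟩ := ha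
    obtain ⟨j, y, rfl⟩ := hb
    obtain ⟨l, ⟨f⟩, ⟨g⟩⟩ := EtNbhd.exists_hom₂ i j
    have hf : ∀ w, bc R (toS l) (bc R (f.1.restrictScalars S) w) = bc R (toS i) w := fun w => by
      rw [← bc_comp]
      congr 2
      exact AlgHom.ext (EtNbhd.toHs_hom f)
    have hg : ∀ w, bc R (toS l) (bc R (g.1.restrictScalars S) w) = bc R (toS j) w := fun w => by
      rw [← bc_comp]
      congr 2
      exact AlgHom.ext (EtNbhd.toHs_hom g)
    exact ⟨l, bc R (f.1.restrictScalars S) x + bc R (g.1.restrictScalars S) y, by rw [map_add, hf, hg]⟩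

theorem bc_toS {i j : EtNbhd S1 K} (f : i ⟶ j) (w : R ⊗[S] i.toNbhd.S) :
    bc R (toS j) (bc R (f.1.restrictScalars S) w) = bc R (toS i) w := by
  rw [← bc_comp]
  congr 2
  exact AlgHom.ext (EtNbhd.toHs_hom f)

theorem exists_stage_fin {m : ℕ} (z : Fin m → R ⊗[S] Hs S1 K) :
    ∃ (i : EtNbhd S1 K) (x : Fin m → R ⊗[S] i.toNbhd.S), ∀ a, bc R (toS i) (x a) = z a := by
  induction m with
  | zero => exact ⟨Classical.arbitrary _, Fin.elim0, fun a => a.elim0⟩
  | succ m ih =>
    obtain ⟨i, x, hx⟩ := ih (fun a => z a.succ)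
    obtain ⟨j, y, hy⟩ := exists_stage (z 0)
    obtain ⟨l, ⟨f⟩, ⟨g⟩⟩ := EtNbhd.exists_hom₂ i j
    refine ⟨l, Fin.cons (bc R (g.1.restrictScalars S) y) fun a => bc R (f.1.restrictScalars S) (x a), fun a => ?_⟩
    induction a using Fin.cases with
    | zero => rw [Fin.cons_zero, bc_toS, hy]
    | succ a => rw [Fin.cons_succ, bc_toS, hx]

theorem exists_kill_one (i : EtNbhd S1 K) (x : R ⊗[S] i.toNbhd.S) (hx : bc R (toS i) x = 0) :
    ∃ (l : EtNbhd S1 K) (f : i ⟶ l), bc R (f.1.restrictScalars S) x = 0 := by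
  have hcomm : ∀ {X Y : Type u} [CommRing X] [CommRing Y] [Algebra S X] [Algebra S Y] (φ : X →ₐ[S] Y) (y : R ⊗[S] X),
      TensorProduct.comm S R Y (bc R φ y) = φ.toLinearMap.rTensor R (TensorProduct.comm S R X y) := by
    intro X Y _ _ _ _ φ y
    induction y using TensorProduct.induction_on with
    | zero => simp
    | tmul r y => simp
    | add a b ha hb => simp only [map_add, ha, hb]
  obtain ⟨⟨l, f⟩, hl⟩ := AzSplit29.exists_rTensor_eq_zero (A := S) (N := R) (κ := Σ l : EtNbhd S1 K, (i ⟶ l))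
    (Bk := fun l => l.1.toNbhd.S) (fun l => (l.2.1.restrictScalars S).toLinearMap)
    (fun l => (toS l.1).toLinearMap) (toS i).toLinearMap
    (fun l => LinearMap.ext fun x => EtNbhd.toHs_hom l.2 x)
    (fun T => by
      obtain ⟨j, hj⟩ := AzSplit29.exists_stage_finset T
      obtain ⟨l, ⟨f⟩, ⟨g⟩⟩ := EtNbhd.exists_hom₂ i j
      refine ⟨⟨l, f⟩, fun b hb => ?_⟩
      obtain ⟨y, rfl⟩ := hj b hb
      exact ⟨g.1 y, EtNbhd.toHs_hom g y⟩)
    (fun l T hT => by
      obtain ⟨m, g, hg⟩ := AzSplit29.exists_kill_finset l.1 T hT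
      exact ⟨⟨m, l.2 ≫ g⟩, (g.1.restrictScalars S).toLinearMap, rfl, hg⟩)
    (TensorProduct.comm S R i.toNbhd.S x) (by rw [← hcomm, hx, map_zero])
  refine ⟨l, f, (TensorProduct.comm S R l.toNbhd.S).injective ?_⟩
  rw [hcomm, map_zero]
  exact hl

theorem exists_kill (i : EtNbhd S1 K) {κ : Type*} [Finite κ] (x : κ → R ⊗[S] i.toNbhd.S)
    (hx : ∀ k, bc R (toS i) (x k) = 0) :
    ∃ (l : EtNbhd S1 K) (f : i ⟶ l), ∀ k, bc R (f.1.restrictScalars S) (x k) = 0 := by
  classical
  cases nonempty_fintype κ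
  suffices h : ∀ t : Finset κ, ∃ (l : EtNbhd S1 K) (f : i ⟶ l), ∀ k ∈ t, bc R (f.1.restrictScalars S) (x k) = 0 by
    obtain ⟨l, f, hf⟩ := h Finset.univ
    exact ⟨l, f, fun k => hf k (Finset.mem_univ k)⟩
  intro t
  induction t using Finset.induction with
  | empty => exact ⟨i, 𝟙 i, by simp⟩
  | insert q t _ ih =>
    obtain ⟨l, f, hf⟩ := ih
    obtain ⟨m, g, hg⟩ := exists_kill_one l (bc R (f.1.restrictScalars S) (x q)) (by rw [bc_toS, hx])
    refine ⟨m, f ≫ g, fun k hk => ?_⟩
    have hcomp : bc R ((f ≫ g).1.restrictScalars S) (x k) =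
        bc R (g.1.restrictScalars S) (bc R (f.1.restrictScalars S) (x k)) :=
      bc_comp (f.1.restrictScalars S) (g.1.restrictScalars S) (x k)
    rw [hcomp]
    rcases Finset.mem_insert.mp hk with rfl | hk
    · exact hg
    · rw [hf k hk, map_zero]

end Stage

theorem sqrt_of_roots (hR : Roots S) {S1 : Type u} [CommRing S1] [Algebra S S1] [Algebra.Etale S S1]
    {K : Type u} [Field K] [Algebra S1 K] [IsSepClosed K] (x : (Hs S1 K)ˣ) : ∃ y : Hs S1 K, y * y = x := by
  obtain ⟨i, a, ha⟩ := EtNbhd.exists_toHs (x : Hs S1 K)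
  have hne : i.toNbhd.σ a ≠ 0 := by
    have h := (Hs.isUnit_iff (x : Hs S1 K)).1 x.isUnit
    rwa [← ha, EtNbhd.toHs_apply, Hs.res_of, Nbhd.res_algebraMap] at h
  obtain ⟨l, f, hf⟩ := i.exists_invert a hne
  haveI : Algebra.Etale S l.toNbhd.S := Algebra.Etale.comp S S1 _
  obtain ⟨S2, _, _, _, _, y, hy⟩ := hR l.toNbhd.S hf.unit
  letI : Algebra l.toNbhd.S (Hs S1 K) := l.toHs.toRingHom.toAlgebra
  haveI : IsSepClosed (IsLocalRing.ResidueField (Hs S1 K)) := AzSplit29.isSepClosed_residueField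
  obtain ⟨τ⟩ := AzSplit29.exists_point (R := l.toNbhd.S) S2 (Hs S1 K)
  refine ⟨τ y, ?_⟩
  rw [← map_mul, hy, AlgHom.commutes]
  change l.toHs ((hf.unit : l.toNbhd.Sˣ) : l.toNbhd.S) = _
  rw [IsUnit.unit_spec, EtNbhd.toHs_hom, ha]

set_option maxHeartbeats 800000 in
/-- solving a natural system of equations étale locally -/
theorem exists_cover_solve (S1 : Type u) [CommRing S1] [Algebra S S1] [Algebra.Etale S S1]
    {ι κ : Type} [Finite ι] [Finite κ]
    (F : ∀ (T : Type u) [CommRing T] [Algebra S T] [Algebra S1 T] [IsScalarTower S S1 T],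
      (ι → R ⊗[S] T) → κ → R ⊗[S] T)
    (nat : ∀ (T T' : Type u) [CommRing T] [Algebra S T] [Algebra S1 T] [IsScalarTower S S1 T] [CommRing T']
      [Algebra S T'] [Algebra S1 T'] [IsScalarTower S S1 T'] (φ : T →ₐ[S1] T') (z : ι → R ⊗[S] T) (k : κ),
      F T' (fun a => bc R (φ.restrictScalars S) (z a)) k = bc R (φ.restrictScalars S) (F T z k))
    (h : ∀ (T : Type u) [CommRing T] [Algebra S T] [Algebra S1 T] [IsScalarTower S S1 T] [Module.Flat S T]
      [HenselianLocalRing T] [IsSepClosed (IsLocalRing.ResidueField T)],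
      (Roots S → ∀ x : Tˣ, ∃ y : T, y * y = x) → ∃ z, ∀ k, F T z k = 0) :
    ∃ (S2 : Type u) (_ : CommRing S2) (_ : Algebra S S2) (_ : Algebra S1 S2) (_ : IsScalarTower S S1 S2),
      Algebra.Etale S S2 ∧ Algebra.Etale S1 S2 ∧ Module.FaithfullyFlat S1 S2 ∧
      ∃ z : ι → R ⊗[S] S2, ∀ k, F S2 z k = 0 := by
  classical
  have key : ∀ p : PrimeSpectrum S1, ∃ i : EtNbhd S1 (SeparableClosure p.asIdeal.ResidueField),
      ∃ x : ι → R ⊗[S] i.toNbhd.S, ∀ k, F i.toNbhd.S x k = 0 := by
    intro p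
    let K := SeparableClosure p.asIdeal.ResidueField
    letI : Algebra S (Hs S1 K) := ((algebraMap S1 (Hs S1 K)).comp (algebraMap S S1)).toAlgebra
    haveI : IsScalarTower S S1 (Hs S1 K) := IsScalarTower.of_algebraMap_eq fun _ => rfl
    haveI : Module.Flat S S1 := inferInstance
    haveI : Module.Flat S (Hs S1 K) := Module.Flat.trans S S1 (Hs S1 K)
    haveI : IsSepClosed (IsLocalRing.ResidueField (Hs S1 K)) := AzSplit29.isSepClosed_residueField
    obtain ⟨z, hz⟩ := h (Hs S1 K) fun hR x => sqrt_of_roots hR x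
    obtain ⟨m, ⟨e⟩⟩ := Finite.exists_equiv_fin ι
    obtain ⟨i, x, hx⟩ := exists_stage_fin fun a => z (e.symm a)
    have hx' : (fun a => bc R (toS i) (x (e a))) = z := funext fun a => by rw [hx, e.symm_apply_apply]
    obtain ⟨l, f, hf⟩ := exists_kill i (fun k => F i.toNbhd.S (fun a => x (e a)) k) fun k => by
      rw [← nat i.toNbhd.S (Hs S1 K) i.toHs, hx', hz]
    exact ⟨l, fun a => bc R (f.1.restrictScalars S) (x (e a)), fun k => by rw [nat _ _ f.1, hf]⟩
  choose i x hx using key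
  let B : PrimeSpectrum S1 → Type u := fun p => (i p).toNbhd.S
  have hmem : ∀ p, p ∈ Set.range (PrimeSpectrum.comap (algebraMap S1 (B p))) := fun p => by
    refine ⟨⟨RingHom.ker (i p).toNbhd.σ, RingHom.ker_isPrime _⟩, ?_⟩
    ext s
    change (i p).toNbhd.σ (algebraMap S1 _ s) = 0 ↔ _
    rw [AlgHom.commutes, IsScalarTower.algebraMap_apply S1 p.asIdeal.ResidueField _,
      map_eq_zero, Ideal.algebraMap_residueField_eq_zero]
  have hopen : ∀ p, IsOpen (Set.range (PrimeSpectrum.comap (algebraMap S1 (B p)))) := fun p =>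
    (PrimeSpectrum.isOpenMap_comap_of_hasGoingDown_of_finitePresentation (R := S1) (S := B p)).isOpen_range
  obtain ⟨t, ht⟩ := isCompact_univ.elim_finite_subcover _ hopen fun p _ => Set.mem_iUnion.2 ⟨p, hmem p⟩
  let S2 := ∀ l : t, B l
  haveI : Module.Flat S1 S2 := Module.Flat.of_linearEquiv
    (DFinsupp.linearEquivFunOnFintype (R := S1) (M := fun l : t => B l)).symm
  haveI : Module.FaithfullyFlat S1 S2 := Module.FaithfullyFlat.of_comap_surjective fun q => by
    obtain ⟨p, hp⟩ := Set.mem_iUnion.1 (ht (Set.mem_univ q))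
    obtain ⟨hpt, q', hq'⟩ := Set.mem_iUnion.1 hp
    refine ⟨PrimeSpectrum.comap (Pi.evalRingHom (fun l : t => B l) ⟨p, hpt⟩) q', ?_⟩
    rw [← hq', ← PrimeSpectrum.comap_comp_apply]
    rfl
  haveI : Algebra.Etale S1 S2 := inferInstanceAs (Algebra.Etale S1 (∀ l : t, B l))
  have hE : Algebra.Etale S S2 := Algebra.Etale.comp S S1 S2
  have hbij := bc_pi_bijective (S := S) (R := R) (B := fun l : t => B l) (P := S2) AlgEquiv.refl
  choose z hz using fun a : ι => hbij.2 fun l => x l a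
  refine ⟨S2, inferInstance, inferInstance, inferInstance, inferInstance, hE, inferInstance, inferInstance, z,
    fun k => hbij.1 (funext fun l => ?_)⟩
  show bc R _ (F S2 z k) = bc R _ 0
  rw [map_zero, show (Pi.evalAlgHom S (fun l : t => B l) l).comp (AlgEquiv.refl : S2 ≃ₐ[S] S2).toAlgHom =
    (Pi.evalAlgHom S1 (fun l : t => B l) l).restrictScalars S from rfl, ← nat]
  have hzl : (fun a => bc R ((Pi.evalAlgHom S1 (fun l : t => B l) l).restrictScalars S) (z a)) = x l :=
    funext fun a => congrFun (hz a) l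
  rw [hzl, hx]

end AzClass29
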