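import Groth.Agent.Lib.RInv29.Henselian
import Groth.Agent.Lib.RInv29.Skew
import Groth.Agent.Lib.RInv29.SkewTwo

/-!
# Classification of forms over a strictly henselian fixed ring
-/

set_option autoImplicit false
set_option linter.style.haveILetI false

universe u v

open Matrix RInv29

namespace AzClass29

variable {E : Type v} [CommRing E]

/-- a form: an invertible matrix which is hermitian up to a scalar -/
structure Form (lam : E ≃+* E) {n : ℕ} (u : Matrix (Fin n) (Fin n) E) (ε : E) : Prop where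
  unit : IsUnit u.det
  symm : ctr lam u = ε • u
  norm : lam ε * ε = 1

/-- similitude of forms -/
def Sim (lam : E ≃+* E) {n : ℕ} (u u' : Matrix (Fin n) (Fin n) E) : Prop :=
  ∃ (v : Matrix (Fin n) (Fin n) E) (c : E), IsUnit v.det ∧ IsUnit c ∧ v * u * ctr lam v = c • u'

variable {lam : E ≃+* E} {n : ℕ}

theorem ctr_smul {ι κ : Type} (c : E) (M : Matrix ι κ E) : ctr lam (c • M) = lam c • ctr lam M := by
  ext i j; simp [ctr]

theorem Sim.trans {u u' u'' : Matrix (Fin n) (Fin n) E} : Sim lam u u' → Sim lam u' u'' → Sim lam u u'' := by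
  rintro ⟨v, c, hv, hc, h⟩ ⟨w, d, hw, hd, h'⟩
  refine ⟨w * v, c * d, by rw [det_mul]; exact hw.mul hv, hc.mul hd, ?_⟩
  rw [ctr_mul, show w * v * u * (ctr lam v * ctr lam w) = w * (v * u * ctr lam v) * ctr lam w by
    simp only [Matrix.mul_assoc], h, Matrix.mul_smul, Matrix.smul_mul, h', smul_smul]

theorem Sim.symm {u u' : Matrix (Fin n) (Fin n) E} : Sim lam u u' → Sim lam u' u := by
  rintro ⟨v, c, hv, hc, h⟩
  obtain ⟨d, hd⟩ := hc.exists_left_inv
  refine ⟨v⁻¹, d, Matrix.isUnit_nonsing_inv_det v hv, IsUnit.of_mul_eq_one _ hd, ?_⟩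
  have hu' : u' = d • (v * u * ctr lam v) := by rw [h, smul_smul, hd, one_smul]
  rw [hu', Matrix.mul_smul, Matrix.smul_mul]
  congr 1
  rw [Matrix.mul_assoc v u, ← Matrix.mul_assoc v⁻¹ v, Matrix.nonsing_inv_mul v hv, Matrix.one_mul,
    Matrix.mul_assoc, ← ctr_mul, Matrix.nonsing_inv_mul v hv, ctr_one, Matrix.mul_one]

theorem Sim.of_hc {h d : Matrix (Fin n) (Fin n) E} (hl : Function.Involutive lam) : HC lam h d → Sim lam h d := by
  rintro ⟨v, hv, rfl⟩
  exact ⟨ctr lam v, 1, by rw [det_ctr]; exact hv.map lam, isUnit_one, by rw [ctr_ctr hl, one_smul]⟩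

theorem Sim.scale {u : Matrix (Fin n) (Fin n) E} {c : E} (hc : IsUnit c) : Sim lam u (c • u) := by
  obtain ⟨d, hd⟩ := hc.exists_left_inv
  exact ⟨1, d, by simp, IsUnit.of_mul_eq_one _ hd, by rw [ctr_one, Matrix.one_mul, Matrix.mul_one, smul_smul, hd, one_smul]⟩

theorem eq_of_smul_eq {u : Matrix (Fin n) (Fin n) E} (hu : IsUnit u.det) (hn : 0 < n) {a b : E}
    (h : a • u = b • u) : a = b := by
  have h1 := congrArg (· * u⁻¹) h
  simp only [Matrix.smul_mul, Matrix.mul_nonsing_inv u hu] at h1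
  simpa using congrFun (congrFun h1 ⟨0, hn⟩) ⟨0, hn⟩

/-- the standard skew matrix made of blocks -/
def stdJn (E : Type v) [CommRing E] (n : ℕ) : Matrix (Fin n) (Fin n) E :=
  Matrix.of fun i j => if i.val / 2 = j.val / 2 then
    (if Even i.val ∧ ¬ Even j.val then 1 else if ¬ Even i.val ∧ Even j.val then -1 else 0) else 0

/-- the index pairs -/
def pairEquiv (m : ℕ) : Fin 2 × Fin m ≃ Fin (2 * m) where
  toFun p := ⟨2 * p.2.val + p.1.val, by omega⟩
  invFun i := (⟨i.val % 2, by omega⟩, ⟨i.val / 2, by omega⟩)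
  left_inv p := by
    obtain ⟨a, k⟩ := p
    ext <;> simp <;> omega
  right_inv i := by ext; simp; omega

theorem stdJn_pair (m : ℕ) : (stdJn E (2 * m)).submatrix (pairEquiv m) (pairEquiv m) =
    Matrix.blockDiagonal fun _ : Fin m => (!![0, 1; -1, 0] : Matrix (Fin 2) (Fin 2) E) := by
  ext ⟨a, k⟩ ⟨b, l⟩
  rw [Matrix.blockDiagonal_apply]
  fin_cases a <;> fin_cases b <;>
    simp [stdJn, pairEquiv, Fin.ext_iff, ← Nat.not_even_iff_odd, Nat.even_add] <;>
    (have h1 : (2 * (k : ℕ) + 1) / 2 = k := by omega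
     have h2 : (2 * (l : ℕ) + 1) / 2 = l := by omega
     try simp [h1, h2])

theorem isUnit_det_stdJn (m : ℕ) : IsUnit (stdJn E (2 * m)).det := by
  rw [← Matrix.det_submatrix_equiv_self (pairEquiv m), stdJn_pair, Matrix.det_blockDiagonal]
  refine IsUnit.prod_iff.2 fun k _ => ?_
  simp [Matrix.det_fin_two]

theorem ctr_stdJn (lam : E ≃+* E) (n : ℕ) : ctr lam (stdJn E n) = (-1 : E) • stdJn E n := by
  ext i j
  simp only [ctr, Matrix.transpose_apply, Matrix.map_apply, stdJn, Matrix.of_apply, Matrix.smul_apply]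
  by_cases h : i.val / 2 = j.val / 2
  · by_cases hi : Even i.val <;> by_cases hj : Even j.val <;> simp [h, hi, hj]
  · simp [h, Ne.symm h]

section Point

variable {T : Type u} [CommRing T] [HenselianLocalRing T] [IsSepClosed (IsLocalRing.ResidueField T)] [Algebra T E]
variable (hl : Function.Involutive lam) (hfix : RInv.IsFixedRing T E lam)
variable (hroot : ∀ x : Tˣ, ∃ y : T, y * y = x)

include hl hfix hroot in
theorem sim_one_of_herm {h : Matrix (Fin n) (Fin n) E} (hh : IsUnit h.det) (hs : ctr lam h = h)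
    (hcase : (∃ a : E, lam a - a ∉ Ring.jacobson E) ∨ IsUnit (2 : E) ∨ Odd n) : Sim lam h 1 := by
  have herm : (1 : E) • ctr lam h = h := by rw [one_smul, hs]
  have hd : ∃ d, HC lam h (Matrix.diagonal d) := by
    by_cases hc : ∃ a : E, lam a - a ∉ Ring.jacobson E
    · refine exists_diagonal hl (one_mul 1) (Or.inr fun m g hg hgh =>
        hasUnit_of_herm hl hfix (one_mul 1) (map_one lam) (Or.inl hc) hg hgh) n h hh herm ?_
      cases n with
      | zero => exact Or.inl rfl
      | succ n => exact Or.inr (hasUnit_of_herm hl hfix (one_mul 1) (map_one lam) (Or.inl hc) hh herm)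
    · have hid : ∀ a : E, lam a - a ∈ Ring.jacobson E := fun a => by_contra fun h' => hc ⟨a, h'⟩
      haveI := isLocalRing_of_forall hl hfix hid
      refine exists_diagonal hl (one_mul 1) (Or.inl inferInstance) n h hh herm ?_
      cases n with
      | zero => exact Or.inl rfl
      | succ n =>
        refine Or.inr ?_
        by_cases h2 : IsUnit (2 : E)
        · exact hasUnit_of_herm hl hfix (one_mul 1) (map_one lam) (Or.inr ⟨rfl, h2⟩) hh herm
        · refine hasUnit_of_odd hid ?_ ((hcase.resolve_left hc).resolve_left h2) hh herm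
          rw [one_add_one_eq_two]
          exact mem_jacobson_iff.2 fun q hq => by
            rw [IsLocalRing.eq_maximalIdeal hq]; exact (IsLocalRing.mem_maximalIdeal _).2 h2
  obtain ⟨d, hd⟩ := hd
  have hdet := hd.isUnit_det hh
  rw [Matrix.det_diagonal, IsUnit.prod_iff] at hdet
  have hdh := hd.herm hl herm
  have hy : ∀ i, ∃ y : T, algebraMap T E y * algebraMap T E y = d i := fun i => by
    have h1 : lam (d i) = d i := by simpa [ctr] using congrFun (congrFun hdh i) i
    obtain ⟨t, ht⟩ := (hfix.2 (d i)).1 h1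
    have htu : IsUnit t := by
      by_contra hu
      haveI := nontrivial hfix
      obtain ⟨q, hq⟩ := Ideal.exists_maximal E
      have h2 : algebraMap T E t ∈ q := mem_jacobson_iff.1
        (map_le_jacobson hl hfix (Ideal.mem_map_of_mem _ ((IsLocalRing.mem_maximalIdeal _).2 hu))) q hq
      exact hq.ne_top (Ideal.eq_top_of_isUnit_mem q h2 (ht ▸ hdet i (Finset.mem_univ i)))
    obtain ⟨y, hy⟩ := hroot htu.unit
    exact ⟨y, by rw [← map_mul, hy, IsUnit.unit_spec, ht]⟩
  choose y hy using hy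
  refine (Sim.of_hc hl hd).trans (Sim.symm ⟨Matrix.diagonal fun i => algebraMap T E (y i), 1, ?_, isUnit_one, ?_⟩)
  · rw [Matrix.det_diagonal, IsUnit.prod_iff]
    exact fun i _ => isUnit_of_mul_isUnit_left ((hy i).symm ▸ hdet i (Finset.mem_univ i))
  · rw [ctr, Matrix.diagonal_map (map_zero lam), Matrix.diagonal_transpose, Matrix.mul_one,
      Matrix.diagonal_mul_diagonal, one_smul]
    simp [lam_algebraMap hfix, hy]

include hl hfix hroot in
theorem sim_one_nontrivial {u : Matrix (Fin n) (Fin n) E} {ε : E} (hu : Form lam u ε)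
    (hc : ∃ a : E, lam a - a ∉ Ring.jacobson E) : Sim lam u 1 := by
  obtain ⟨r, hr⟩ := exists_unit_of_notMem_jacobson hl hfix hc
  haveI := nontrivial hfix
  obtain ⟨q, hq⟩ := Ideal.exists_maximal E
  obtain ⟨x, hx⟩ : ∃ x : E, x + ε * lam x ∉ q := by
    by_contra hall
    push Not at hall
    have h1 : r + ε * lam r ∈ q := hall r
    have h2 : lam r * (1 + ε * lam 1) ∈ q := q.mul_mem_left _ (hall 1)
    rw [map_one, mul_one] at h2
    refine hq.ne_top (Ideal.eq_top_of_isUnit_mem q ?_ hr)
    rw [show r - lam r = (r + ε * lam r) - lam r * (1 + ε) by ring]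
    exact q.sub_mem h1 h2
  have hfx : lam (x + ε * lam x) * ε = x + ε * lam x := by
    rw [map_add, map_mul, hl]
    linear_combination x * hu.norm
  have hcu : IsUnit (x + ε * lam x) := by
    by_contra hnu
    obtain ⟨q', hq', hmem⟩ := exists_max_ideal_of_mem_nonunits hnu
    rcases maximal_eq hl hfix q q' with rfl | rfl
    · exact hx hmem
    · exact hx (hfx ▸ q.mul_mem_right ε (mem_conj.1 hmem))
  refine (Sim.scale hcu).trans (sim_one_of_herm hl hfix hroot ?_ ?_ (Or.inl hc))
  · rw [Matrix.det_smul]; exact (hcu.pow _).mul hu.unit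
  · rw [ctr_smul, hu.symm, smul_smul, hfx]

include hl hfix hroot in
theorem sim_one_odd {u : Matrix (Fin n) (Fin n) E} {ε : E} (hu : Form lam u ε) (hn : Odd n) : Sim lam u 1 := by
  obtain ⟨m, hm⟩ := hn
  have hd : lam u.det = ε ^ n * u.det := by
    rw [← det_ctr, hu.symm, Matrix.det_smul, Fintype.card_fin]
  set e := u.det * ε ^ m
  have he : lam e = ε * e := by
    have h1 : lam ε ^ m * ε ^ m = 1 := by rw [← mul_pow, hu.norm, one_pow]
    simp only [e, map_mul, map_pow, hd, hm]
    rw [pow_succ, two_mul, pow_add]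
    linear_combination (ε ^ m * ε * u.det) * h1
  have hε : IsUnit ε := IsUnit.of_mul_eq_one_right _ hu.norm
  have hcu : IsUnit (lam e) := (hu.unit.mul (hε.pow m)).map lam
  have hfx : lam (lam e) * ε = lam e := by rw [hl, he, mul_comm]
  refine (Sim.scale hcu).trans (sim_one_of_herm hl hfix hroot ?_ ?_ (Or.inr (Or.inr ⟨m, hm⟩)))
  · rw [Matrix.det_smul]; exact (hcu.pow _).mul hu.unit
  · rw [ctr_smul, hu.symm, smul_smul, hfx]

include hl hfix hroot in
theorem sim_one_of_sign {u : Matrix (Fin n) (Fin n) E} {ε : E} (hu : Form lam u ε) (h2 : IsUnit (2 : E))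
    (hε : ε - 1 ∈ Ring.jacobson E) : Sim lam u 1 := by
  have hcu : IsUnit (1 + ε) := by
    by_contra hnu
    obtain ⟨q, hq, hmem⟩ := exists_max_ideal_of_mem_nonunits hnu
    refine hq.ne_top (Ideal.eq_top_of_isUnit_mem q ?_ h2)
    have := q.sub_mem hmem (mem_jacobson_iff.1 hε q hq)
    rwa [show (1 + ε) - (ε - 1) = 2 by ring] at this
  refine (Sim.scale hcu).trans (sim_one_of_herm hl hfix hroot ?_ ?_ (Or.inr (Or.inl h2)))
  · rw [Matrix.det_smul]; exact (hcu.pow _).mul hu.unit
  · rw [ctr_smul, hu.symm, smul_smul, map_add, map_one, add_mul, one_mul, hu.norm, add_comm]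

include hl hfix hroot in
theorem sim_J_of_sign {u : Matrix (Fin n) (Fin n) E} {ε : E} (hu : Form lam u ε) (h2 : IsUnit (2 : E))
    (hid : ∀ a : E, lam a - a ∈ Ring.jacobson E) (hε : ε + 1 ∈ Ring.jacobson E) :
    Even n ∧ Sim lam u (stdJn E n) := by
  haveI := isLocalRing_of_forall hl hfix hid
  have hJ : ∀ x, x ∈ Ring.jacobson E ↔ ¬ IsUnit x := fun x => by
    rw [mem_jacobson_iff]
    exact ⟨fun h => (IsLocalRing.mem_maximalIdeal _).1 (h _ (IsLocalRing.maximalIdeal.isMaximal E)),
      fun h q hq => by rw [IsLocalRing.eq_maximalIdeal hq]; exact (IsLocalRing.mem_maximalIdeal _).2 h⟩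
  have hcu : IsUnit (ε - 1) := by
    by_contra hnu
    have := Submodule.sub_mem _ hε ((hJ _).2 hnu)
    rw [show (ε + 1) - (ε - 1) = 2 by ring] at this
    exact (hJ _).1 this h2
  have hsk : (-1 : E) • ctr lam ((ε - 1) • u) = (ε - 1) • u := by
    rw [ctr_smul, hu.symm, smul_smul, smul_smul, map_sub, map_one]
    congr 1
    linear_combination (-1 : E) * hu.norm
  have hdet : IsUnit ((ε - 1) • u).det := by rw [Matrix.det_smul]; exact (hcu.pow _).mul hu.unit
  obtain ⟨hev, N, hN, hblocks⟩ := exists_blocks hl hid h2 n _ hdet hsk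
  refine ⟨hev, ((Sim.scale hcu).trans (Sim.of_hc hl hN)).trans ?_⟩
  have hNs := hN.herm hl hsk
  obtain ⟨m, hm⟩ := hev
  obtain rfl : n = 2 * m := by omega
  set Nk : Fin m → Matrix (Fin 2) (Fin 2) E := fun k => Matrix.of fun a b => N (pairEquiv m (a, k)) (pairEquiv m (b, k))
  have hNb : N.submatrix (pairEquiv m) (pairEquiv m) = Matrix.blockDiagonal Nk := by
    ext ⟨a, k⟩ ⟨b, l⟩
    rw [Matrix.blockDiagonal_apply]
    by_cases hkl : k = l
    · subst hkl; simp [Nk]
    · rw [if_neg hkl]
      refine (hblocks _ _).1 ?_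
      have := Fin.val_ne_of_ne hkl
      simp [pairEquiv]
      omega
  have hskew : ∀ i j, -lam (N j i) = N i j := fun i j => by simpa [ctr] using congrFun (congrFun hNs i) j
  have hsol : ∀ k, ∃ v : Matrix (Fin 2) (Fin 2) E, IsUnit v ∧ ctr lam v * Nk k * v = !![0, 1; -1, 0] := by
    intro k
    let i0 := pairEquiv m (0, k)
    let i1 := pairEquiv m (1, k)
    have hb : IsUnit (N i0 i1) := by
      by_contra hnu
      have h1 := (hblocks i0 i1).2.2.1 (by simp [i0, i1, pairEquiv]; omega) (by simp [i0, pairEquiv])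
        (by simp [i1, pairEquiv, Nat.even_add])
      have := Submodule.sub_mem _ ((hJ _).2 hnu) h1
      rw [sub_sub_cancel] at this
      exact (hJ _).1 this isUnit_one
    have ha : N i0 i0 ∈ Ring.jacobson E := (hblocks i0 i0).2.1 rfl Iff.rfl
    obtain ⟨β, hβ⟩ := (hb.mul (hb.map lam)).exists_left_inv
    have hβ' : lam β = β := by
      have e1 : lam β * (N i0 i1 * lam (N i0 i1)) = 1 := by
        have := congrArg lam hβ
        rw [map_mul, map_one, map_mul, hl] at this
        linear_combination this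
      linear_combination β * e1 - lam β * hβ
    have hsa : ∀ i, lam (N i i) = -N i i := fun i => by linear_combination -(hskew i i)
    obtain ⟨δ, hδ⟩ := (hfix.2 (N i1 i1 * N i0 i0 * β)).1 (by
      rw [map_mul, map_mul, hsa, hsa, hβ']; ring)
    have hδm : δ ∈ IsLocalRing.maximalIdeal T := by
      refine (IsLocalRing.mem_maximalIdeal _).2 fun hu => ?_
      refine (hJ _).1 ?_ (hu.map (algebraMap T E))
      rw [hδ]; exact Ideal.mul_mem_right _ _ (Ideal.mul_mem_left _ _ ha)
    have h1δ : IsUnit (1 + δ) := by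
      by_contra hu
      have := Ideal.sub_mem _ ((IsLocalRing.mem_maximalIdeal _).2 hu) hδm
      rw [add_sub_cancel_right] at this
      exact (IsLocalRing.mem_maximalIdeal _).1 this isUnit_one
    obtain ⟨y, hy⟩ := hroot h1δ.unit
    rw [IsUnit.unit_spec] at hy
    obtain ⟨y', hy', hy1⟩ : ∃ y' : T, y' * y' = 1 + δ ∧ IsUnit (1 + algebraMap T E y') := by
      by_cases h1 : IsUnit (1 + algebraMap T E y)
      · exact ⟨y, hy, h1⟩
      · refine ⟨-y, by rw [neg_mul_neg, hy], ?_⟩
        by_contra h3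
        have := Submodule.add_mem _ ((hJ _).2 h1) ((hJ _).2 h3)
        rw [map_neg, show 1 + algebraMap T E y + (1 + -algebraMap T E y) = 2 by ring] at this
        exact (hJ _).1 this h2
    obtain ⟨v, hv, hvj⟩ := exists_congr_stdJ lam.toRingHom (a := N i0 i0) (b := N i0 i1) (d := N i1 i1)
      (s0 := algebraMap T E y') (hsa i0) (hsa i1) hb (lam_algebraMap hfix y') (hl _) (by
        change algebraMap T E y' * algebraMap T E y' * (N i0 i1 * lam (N i0 i1)) =
          N i0 i1 * lam (N i0 i1) + N i1 i1 * N i0 i0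
        rw [← map_mul, hy', map_add, map_one, hδ]
        linear_combination (N i1 i1 * N i0 i0) * hβ) h2 hy1
      ((isUnit_of_mul_isUnit_left (hy'.symm ▸ h1δ)).map _)
    refine ⟨v, hv, ?_⟩
    have hNk : Nk k = !![N i0 i0, N i0 i1; -lam.toRingHom (N i0 i1), N i1 i1] := by
      ext a b
      fin_cases a <;> fin_cases b
      · rfl
      · rfl
      · exact (hskew i1 i0).symm
      · rfl
    rw [hNk]
    exact hvj
  choose v hv hvN using hsol
  refine Sim.of_hc hl ?_
  have h3 : HC lam (Matrix.blockDiagonal Nk) (Matrix.blockDiagonal fun _ : Fin m => (!![0, 1; -1, 0] : Matrix (Fin 2) (Fin 2) E)) := by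
    refine ⟨Matrix.blockDiagonal v, ?_, ?_⟩
    · rw [Matrix.det_blockDiagonal, IsUnit.prod_iff]
      exact fun k _ => (Matrix.isUnit_iff_isUnit_det _).1 (hv k)
    · rw [ctr, Matrix.blockDiagonal_map _ _ (map_zero lam), Matrix.blockDiagonal_transpose, ← Matrix.blockDiagonal_mul,
        ← Matrix.blockDiagonal_mul]
      exact congrArg Matrix.blockDiagonal (funext hvN)
  rw [← hNb, ← stdJn_pair] at h3
  have h4 := h3.submatrix (pairEquiv m).symm
  simpa only [Matrix.submatrix_submatrix, Equiv.self_comp_symm, Matrix.submatrix_id_id] using h4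

omit [IsSepClosed (IsLocalRing.ResidueField T)] in
include hl hfix in
theorem sign_or {ε : E} (hε : lam ε * ε = 1) (hid : ∀ a : E, lam a - a ∈ Ring.jacobson E) :
    ε - 1 ∈ Ring.jacobson E ∨ ε + 1 ∈ Ring.jacobson E := by
  haveI := isLocalRing_of_forall hl hfix hid
  have h1 : (ε - 1) * (ε + 1) ∈ IsLocalRing.maximalIdeal E := by
    have := Ideal.mul_mem_right ε _ (mem_jacobson_iff.1 (hid ε) _ (IsLocalRing.maximalIdeal.isMaximal E))
    rw [sub_mul, hε] at this
    rw [show (ε - 1) * (ε + 1) = -(1 - ε * ε) by ring]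
    exact neg_mem this
  have hJ : ∀ x, x ∈ IsLocalRing.maximalIdeal E → x ∈ Ring.jacobson E := fun x hx =>
    mem_jacobson_iff.2 fun q hq => by rw [IsLocalRing.eq_maximalIdeal hq]; exact hx
  exact ((IsLocalRing.maximalIdeal.isMaximal E).isPrime.mem_or_mem h1).imp (hJ _) (hJ _)

include hl hfix hroot in
/-- forms with the same signs are similar -/
theorem sim_of_sign_eq {u u' : Matrix (Fin n) (Fin n) E} {ε ε' : E} (hu : Form lam u ε) (hu' : Form lam u' ε')
    (hcase : (∃ a : E, lam a - a ∉ Ring.jacobson E) ∨ IsUnit (2 : E) ∨ Odd n)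
    (hsign : IsUnit (2 : E) → (∀ a : E, lam a - a ∈ Ring.jacobson E) → ε - ε' ∈ Ring.jacobson E) :
    Sim lam u u' := by
  by_cases hc : ∃ a : E, lam a - a ∉ Ring.jacobson E
  · exact (sim_one_nontrivial hl hfix hroot hu hc).trans (sim_one_nontrivial hl hfix hroot hu' hc).symm
  by_cases ho : Odd n
  · exact (sim_one_odd hl hfix hroot hu ho).trans (sim_one_odd hl hfix hroot hu' ho).symm
  have h2 := (hcase.resolve_left hc).resolve_right ho
  have hid : ∀ a : E, lam a - a ∈ Ring.jacobson E := fun a => by_contra fun h' => hc ⟨a, h'⟩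
  have hs := hsign h2 hid
  rcases sign_or hl hfix hu.norm hid with h | h
  · refine (sim_one_of_sign hl hfix hroot hu h2 h).trans (sim_one_of_sign hl hfix hroot hu' h2 ?_).symm
    have := Submodule.sub_mem _ h hs
    rwa [show ε - 1 - (ε - ε') = ε' - 1 by ring] at this
  · refine (sim_J_of_sign hl hfix hroot hu h2 hid h).2.trans (sim_J_of_sign hl hfix hroot hu' h2 hid ?_).2.symm
    have := Submodule.sub_mem _ h hs
    rwa [show ε + 1 - (ε - ε') = ε' + 1 by ring] at this

end Point

/-- similar forms have congruent signs where the involution is trivial -/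
theorem sign_eq_of_sim (hl : Function.Involutive lam) {u u' : Matrix (Fin n) (Fin n) E} {ε ε' : E} (hn : 0 < n)
    (hu : Form lam u ε) (hu' : Form lam u' ε') (h : Sim lam u u') (q : Ideal E)
    (hq : ∀ a : E, lam a - a ∈ q) : ε - ε' ∈ q := by
  obtain ⟨v, c, hv, hc, h⟩ := h
  have h1 : ctr lam (v * u * ctr lam v) = ε • (v * u * ctr lam v) := by
    rw [ctr_mul, ctr_mul, ctr_ctr hl, hu.symm, Matrix.smul_mul, Matrix.mul_smul, Matrix.mul_assoc]
  rw [h, ctr_smul, hu'.symm, smul_smul, smul_smul] at h1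
  have h2 := eq_of_smul_eq hu'.unit hn h1
  obtain ⟨d, hd⟩ := hc.exists_left_inv
  rw [show ε - ε' = d * ε' * (lam c - c) by linear_combination (-d) * h2 + (ε' - ε) * hd]
  exact q.mul_mem_left _ (hq c)

end AzClass29
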