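import Groth.Agent.Lib.AzClass29.Rep

/-!
# Local isomorphisms from similar models, and conversely
-/

set_option autoImplicit false
set_option linter.style.haveILetI false

universe u v w w'

open TensorProduct Groth.Agent.Brauer25.SplitMap
open Module (rankAtStalk)
open RInv29 (ctr ctr_mul ctr_one ctr_ctr det_ctr)

namespace AzClass29

set_option maxHeartbeats 1000000

variable {S : Type u} {R : Type v} [CommRing S] [CommRing R] [Algebra S R] {lam : R ≃ₐ[S] R}
variable {A : Type w} [Ring A] [Algebra S A] [Algebra R A] [IsScalarTower S R A]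
variable {A' : Type w'} [Ring A'] [Algebra S A'] [Algebra R A'] [IsScalarTower S R A']
variable {t : AzInv.LamInv R A lam} {t' : AzInv.LamInv R A' lam}

/-- scalars of the base as matrices -/
noncomputable def scal (T : Type u) [CommRing T] [Algebra S T] (n : ℕ) : T →ₐ[S] Matrix (Fin n) (Fin n) (R ⊗[S] T) :=
  ((IsScalarTower.toAlgHom S (R ⊗[S] T) (Matrix (Fin n) (Fin n) (R ⊗[S] T))).comp
    Algebra.TensorProduct.includeRight)

theorem scal_apply (T : Type u) [CommRing T] [Algebra S T] (n : ℕ) (s : T) :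
    scal (R := R) T n s = algebraMap (R ⊗[S] T) (Matrix (Fin n) (Fin n) (R ⊗[S] T)) ((1 : R) ⊗ₜ[S] s) := rfl

/-- the matrix isomorphism of a model, as a map -/
noncomputable def Rep.eval {T : Type u} [CommRing T] [Algebra S T] {n : ℕ} (P : Rep lam t T n) :
    T ⊗[S] A →ₐ[S] Matrix (Fin n) (Fin n) (R ⊗[S] T) :=
  Algebra.TensorProduct.lift (scal (R := R) T n) (P.G.restrictScalars S) fun x y => by
    rw [scal_apply]
    exact Algebra.commutes _ _

theorem Rep.eval_tmul {T : Type u} [CommRing T] [Algebra S T] {n : ℕ} (P : Rep lam t T n) (s : T) (a : A) :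
    P.eval (s ⊗ₜ a) = ((1 : R) ⊗ₜ[S] s) • P.G a := by
  rw [Rep.eval, Algebra.TensorProduct.lift_tmul, scal_apply, AlgHom.restrictScalars_apply, ← Algebra.smul_def]

theorem Rep.eval_bijective [Module.Finite R A] [Module.Projective R A] {n : ℕ}
    (hrk : ∀ p : PrimeSpectrum R, rankAtStalk (R := R) A p = n ^ 2) {T : Type u} [CommRing T] [Algebra S T]
    (P : Rep lam t T n) : Function.Bijective P.eval := by
  let κ : T ⊗[S] A → (R ⊗[S] T) ⊗[R] A := fun x => TensorProduct.comm R A (R ⊗[S] T)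
    ((TensorProduct.AlgebraTensorModule.cancelBaseChange S R R A T).symm (TensorProduct.comm S T A x))
  have hκ : Function.Bijective κ :=
    ((TensorProduct.comm R A (R ⊗[S] T)).bijective.comp
      (TensorProduct.AlgebraTensorModule.cancelBaseChange S R R A T).symm.bijective).comp
      (TensorProduct.comm S T A).bijective
  have hκt : ∀ (s : T) (a : A), κ (s ⊗ₜ a) = ((1 : R) ⊗ₜ[S] s) ⊗ₜ[R] a := fun s a => by simp [κ]
  have hκadd : ∀ x y, κ (x + y) = κ x + κ y := fun x y => by simp [κ]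
  have h : ⇑P.eval = ⇑(ext P.G) ∘ κ := funext fun x => by
    induction x using TensorProduct.induction_on with
    | zero => simp [κ]
    | tmul s a => rw [Function.comp_apply, hκt, ext_tmul, P.eval_tmul]
    | add a b ha hb => rw [map_add, ha, hb, Function.comp_apply, Function.comp_apply, Function.comp_apply, hκadd, map_add]
  rw [h]
  exact (ext_bijective hrk P.split).comp hκ

theorem Rep.eval_algebraMap {T : Type u} [CommRing T] [Algebra S T] {n : ℕ} (P : Rep lam t T n) (r : R) :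
    P.eval ((1 : T) ⊗ₜ algebraMap R A r) = algebraMap R (Matrix (Fin n) (Fin n) (R ⊗[S] T)) r := by
  rw [P.eval_tmul, AlgHom.commutes, ← Algebra.TensorProduct.one_def, one_smul]

theorem Rep.eval_bc {T : Type u} [CommRing T] [Algebra S T] {n : ℕ} (P : Rep lam t T n) (x : T ⊗[S] A) :
    P.eval (t.bc S lam T x) * P.u = P.u * ctr (sg lam T) (P.eval x) := by
  induction x using TensorProduct.induction_on with
  | zero => simp [ctr]
  | tmul s a =>
    rw [AzInv.LamInv.bc_tmul, P.eval_tmul, P.eval_tmul, ctr_smul, sg_tmul_one, Matrix.smul_mul, Matrix.mul_smul, P.eq]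
  | add a b ha hb =>
    rw [map_add, map_add, map_add, Matrix.add_mul, ha, hb, ← Matrix.mul_add]
    congr 1
    ext i j
    simp [ctr]

/-- similar models give a local isomorphism -/
theorem locIso_of_sim (hl : Function.Involutive lam) {n : ℕ} [Module.Finite R A] [Module.Projective R A]
    [Module.Finite R A'] [Module.Projective R A']
    (hrk : ∀ p : PrimeSpectrum R, rankAtStalk (R := R) A p = n ^ 2)
    (hrk' : ∀ p : PrimeSpectrum R, rankAtStalk (R := R) A' p = n ^ 2)
    {S2 : Type u} [CommRing S2] [Algebra S S2] [Algebra.Etale S S2] [Module.FaithfullyFlat S S2]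
    (P : Rep lam t S2 n) (Q : Rep lam t' S2 n) (h : Sim (sg lam S2) P.u Q.u) : AzInv.LocIsoEt S lam t t' := by
  obtain ⟨v, c, hv, hc, hvc⟩ := h
  obtain ⟨c', hc'⟩ := hc.exists_left_inv
  have hQ := Q.eval_bijective hrk'
  have hP := P.eval_bijective hrk
  let eQ := AlgEquiv.ofBijective Q.eval hQ
  let eP := AlgEquiv.ofBijective P.eval hP
  have hvv : v * v⁻¹ = 1 := Matrix.mul_nonsing_inv v hv
  have hvv' : v⁻¹ * v = 1 := Matrix.nonsing_inv_mul v hv
  let cj : Matrix (Fin n) (Fin n) (R ⊗[S] S2) ≃ₐ[S] Matrix (Fin n) (Fin n) (R ⊗[S] S2) :=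
    AlgEquiv.ofAlgHom
      (AlgHom.ofLinearMap ((LinearMap.mulRight S v⁻¹).comp (LinearMap.mulLeft S v))
        (by simp [hvv])
        (fun x y => by
          simp only [LinearMap.comp_apply, LinearMap.mulLeft_apply, LinearMap.mulRight_apply]
          rw [show v * x * v⁻¹ * (v * y * v⁻¹) = v * x * (v⁻¹ * v) * y * v⁻¹ by simp only [Matrix.mul_assoc],
            hvv', Matrix.mul_one]
          simp only [Matrix.mul_assoc]))
      (AlgHom.ofLinearMap ((LinearMap.mulRight S v).comp (LinearMap.mulLeft S v⁻¹))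
        (by simp [hvv'])
        (fun x y => by
          simp only [LinearMap.comp_apply, LinearMap.mulLeft_apply, LinearMap.mulRight_apply]
          rw [show v⁻¹ * x * v * (v⁻¹ * y * v) = v⁻¹ * x * (v * v⁻¹) * y * v by simp only [Matrix.mul_assoc],
            hvv, Matrix.mul_one]
          simp only [Matrix.mul_assoc]))
      (AlgHom.ext fun x => by
        change v * (v⁻¹ * x * v) * v⁻¹ = x
        rw [← Matrix.mul_assoc, ← Matrix.mul_assoc, hvv, Matrix.one_mul, Matrix.mul_assoc, hvv, Matrix.mul_one])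
      (AlgHom.ext fun x => by
        change v⁻¹ * (v * x * v⁻¹) * v = x
        rw [← Matrix.mul_assoc, ← Matrix.mul_assoc, hvv', Matrix.one_mul, Matrix.mul_assoc, hvv', Matrix.mul_one])
  let f0 := (eP.trans cj).trans eQ.symm
  have hf0 : ∀ x, Q.eval (f0 x) = v * P.eval x * v⁻¹ := fun x => eQ.apply_symm_apply (cj (eP x))
  have hcent : ∀ r : R ⊗[S] S2, v * algebraMap _ (Matrix (Fin n) (Fin n) (R ⊗[S] S2)) r * v⁻¹ = algebraMap _ _ r := fun r => by
    rw [← Algebra.commutes, Matrix.mul_assoc, hvv, Matrix.mul_one]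
  let f : S2 ⊗[S] A ≃ₐ[S2] S2 ⊗[S] A' :=
    AlgEquiv.ofRingEquiv (f := f0.toRingEquiv) fun s => by
      refine hQ.1 ?_
      change Q.eval (f0 (s ⊗ₜ (1 : A))) = Q.eval (s ⊗ₜ (1 : A'))
      rw [hf0, P.eval_tmul, Q.eval_tmul, map_one, map_one, ← Algebra.algebraMap_eq_smul_one]
      exact hcent _
  refine ⟨S2, inferInstance, inferInstance, inferInstance, inferInstance, f, fun r x => ?_, fun x => ?_⟩
  · rw [map_mul]
    congr 1
    refine hQ.1 ?_
    change Q.eval (f0 _) = _
    rw [hf0, P.eval_algebraMap, Q.eval_algebraMap, IsScalarTower.algebraMap_apply R (R ⊗[S] S2)]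
    exact hcent _
  · refine hQ.1 ?_
    change Q.eval (f0 _) = Q.eval (t'.bc S lam S2 (f0 x))
    set τ := ctr (sg lam S2) with hτd
    have h1 := Q.eval_bc (f0 x)
    rw [hf0, ctr_mul, ctr_mul] at h1
    have hu' : Q.u = c' • (v * P.u * τ v) := by rw [hvc, smul_smul, hc', one_smul]
    have h2 : Q.eval (t'.bc S lam S2 (f0 x)) = (v * P.eval (t.bc S lam S2 x) * v⁻¹) := by
      have h3 : v * P.eval (t.bc S lam S2 x) * v⁻¹ * Q.u = Q.eval (t'.bc S lam S2 (f0 x)) * Q.u := by
        rw [h1]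
        have hvd : τ v * τ v⁻¹ = 1 := by rw [hτd, ← ctr_mul, hvv', ctr_one]
        rw [hu', Matrix.mul_smul, Matrix.smul_mul]
        congr 1
        calc v * P.eval (t.bc S lam S2 x) * v⁻¹ * (v * P.u * τ v)
            = v * P.eval (t.bc S lam S2 x) * (v⁻¹ * v) * P.u * τ v := by simp only [Matrix.mul_assoc]
          _ = v * (P.eval (t.bc S lam S2 x) * P.u) * τ v := by
            rw [hvv', Matrix.mul_one]; simp only [Matrix.mul_assoc]
          _ = v * P.u * ctr (sg lam S2) (P.eval x) * τ v := by rw [P.eval_bc]; simp only [Matrix.mul_assoc]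
          _ = v * P.u * (τ v * τ v⁻¹) * ctr (sg lam S2) (P.eval x) * τ v := by rw [hvd, Matrix.mul_one]
          _ = _ := by simp only [hτd, Matrix.mul_assoc]
      have := congrArg (· * Q.u⁻¹) h3
      simpa only [Matrix.mul_nonsing_inv_cancel_right _ _ Q.form.unit] using this.symm
    rw [h2, hf0]

/-- pull a model back along a local isomorphism -/
theorem exists_pullback {S3 : Type u} [CommRing S3] [Algebra S S3] (f : S3 ⊗[S] A ≃ₐ[S3] S3 ⊗[S] A')
    (hfR : ∀ (r : R) (x : S3 ⊗[S] A),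
      f (((1 : S3) ⊗ₜ[S] algebraMap R A r) * x) = ((1 : S3) ⊗ₜ[S] algebraMap R A' r) * f x)
    (hft : ∀ x : S3 ⊗[S] A, f (t.bc S lam S3 x) = t'.bc S lam S3 (f x))
    {T : Type u} [CommRing T] [Algebra S T] (φ : S3 →ₐ[S] T) {n : ℕ} (Q : Rep lam t' T n) :
    ∃ P : Rep lam t T n, P.u = Q.u ∧ P.ε = Q.ε := by
  let ψ : S3 ⊗[S] A' →ₐ[S] T ⊗[S] A' := Algebra.TensorProduct.map φ (AlgHom.id S A')
  let G0 : A →ₐ[S] Matrix (Fin n) (Fin n) (R ⊗[S] T) :=
    (Q.eval.comp ψ).comp ((f.toAlgHom.restrictScalars S).comp Algebra.TensorProduct.includeRight)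
  have hG0 : ∀ a, G0 a = Q.eval (ψ (f ((1 : S3) ⊗ₜ a))) := fun a => rfl
  have hψ : ∀ x, ψ (t'.bc S lam S3 x) = t'.bc S lam T (ψ x) := fun x => by
    induction x using TensorProduct.induction_on with
    | zero => simp
    | tmul s a => simp [ψ]
    | add a b ha hb => simp only [map_add, ha, hb]
  let G : A →ₐ[R] Matrix (Fin n) (Fin n) (R ⊗[S] T) :=
    { G0 with
      commutes' := fun r => by
        change G0 (algebraMap R A r) = _
        have h := hfR r 1
        rw [map_one, mul_one, mul_one] at h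
        rw [hG0, h]
        change Q.eval (ψ ((1 : S3) ⊗ₜ algebraMap R A' r)) = _
        rw [show ψ ((1 : S3) ⊗ₜ algebraMap R A' r) = (1 : T) ⊗ₜ algebraMap R A' r by simp [ψ], Q.eval_algebraMap] }
  refine ⟨⟨G, ?_, Q.u, Q.ε, Q.form, fun a => ?_⟩, rfl, rfl⟩
  · have key : ∀ y : S3 ⊗[S] A, Q.eval (ψ (f y)) ∈ Submodule.span (R ⊗[S] T) (Set.range G) := fun y => by
      induction y using TensorProduct.induction_on with
      | zero => simp
      | tmul s a =>
        rw [show s ⊗ₜ[S] a = algebraMap S3 (S3 ⊗[S] A) s * ((1 : S3) ⊗ₜ a) by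
          simp [Algebra.TensorProduct.algebraMap_apply], map_mul, AlgEquiv.commutes, map_mul, map_mul]
        rw [show Q.eval (ψ (algebraMap S3 (S3 ⊗[S] A') s)) = algebraMap (R ⊗[S] T) _ ((1 : R) ⊗ₜ[S] φ s) by
          rw [Algebra.TensorProduct.algebraMap_apply]; simp [ψ, Q.eval_tmul, Algebra.algebraMap_eq_smul_one],
          ← Algebra.smul_def]
        exact Submodule.smul_mem _ _ (Submodule.subset_span ⟨a, rfl⟩)
      | add a b ha hb => rw [map_add, map_add, map_add]; exact add_mem ha hb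
    refine eq_top_iff.2 ?_
    rw [← Q.split, Submodule.span_le]
    rintro _ ⟨a', rfl⟩
    obtain ⟨y, hy⟩ := f.surjective ((1 : S3) ⊗ₜ a')
    have h2 := key y
    rw [hy, show ψ ((1 : S3) ⊗ₜ a') = (1 : T) ⊗ₜ a' by simp [ψ], Q.eval_tmul, ← Algebra.TensorProduct.one_def, one_smul] at h2
    exact h2
  · change G0 (t a) * Q.u = Q.u * ctr (sg lam T) (G0 a)
    rw [hG0, hG0, show (1 : S3) ⊗ₜ[S] t a = t.bc S lam S3 ((1 : S3) ⊗ₜ a) by rw [AzInv.LamInv.bc_tmul], hft, hψ,
      Q.eval_bc]

/-- the equations of a similitude -/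
noncomputable def simSys (lam : R ≃ₐ[S] R) {n : ℕ} (T : Type u) [CommRing T] [Algebra S T]
    (u u' : Matrix (Fin n) (Fin n) (R ⊗[S] T)) (z : Vars n ⊕ Unit → R ⊗[S] T) :
    (Fin n × Fin n) ⊕ (Fin n × Fin n) ⊕ Unit → R ⊗[S] T
  | Sum.inl q => (matU (fun a => z (Sum.inl a)) * u * ctr (sg lam T) (matU fun a => z (Sum.inl a)) -
      varE (fun a => z (Sum.inl a)) • u') q.1 q.2
  | Sum.inr (Sum.inl q) => (matU (fun a => z (Sum.inl a)) * matW (fun a => z (Sum.inl a)) - 1) q.1 q.2
  | Sum.inr (Sum.inr _) => z (Sum.inr ()) * varE (fun a => z (Sum.inl a)) - 1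

theorem simSys_map (lam : R ≃ₐ[S] R) {n : ℕ} {T T' : Type u} [CommRing T] [Algebra S T] [CommRing T'] [Algebra S T']
    (φ : T →ₐ[S] T') (u u' : Matrix (Fin n) (Fin n) (R ⊗[S] T)) (z : Vars n ⊕ Unit → R ⊗[S] T)
    (k : (Fin n × Fin n) ⊕ (Fin n × Fin n) ⊕ Unit) :
    simSys lam T' (u.map (bc R φ)) (u'.map (bc R φ)) (fun a => bc R φ (z a)) k = bc R φ (simSys lam T u u' z k) := by
  set zz := fun a => z (Sum.inl a) with hzz
  have hU : matU (fun a => bc R φ (zz a)) = (matU zz).map (bc R φ) := rfl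
  have hW : matW (fun a => bc R φ (zz a)) = (matW zz).map (bc R φ) := rfl
  have hE : varE (fun a => bc R φ (zz a)) = bc R φ (varE zz) := rfl
  rcases k with q | q | q
  · simp only [simSys]
    rw [hU, hE, ← map_ctr, ← Matrix.map_mul, ← Matrix.map_mul, ← Matrix.map_smul' _ _ _ (map_mul (bc R φ)),
      ← Matrix.map_sub _ (map_sub (bc R φ))]
    rfl
  · simp only [simSys]
    rw [hU, hW, ← Matrix.map_mul, ← Matrix.map_one (bc R φ) (map_zero (bc R φ)) (map_one (bc R φ)),
      ← Matrix.map_sub _ (map_sub (bc R φ))]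
    rfl
  · simp only [simSys]
    rw [hE, map_sub, map_mul, map_one]

/-- models similar at all points give a local isomorphism -/
theorem locIso_of_points (hl : Function.Involutive lam) {n : ℕ} [Module.Finite R A] [Module.Projective R A]
    [Module.Finite R A'] [Module.Projective R A']
    (hrk : ∀ p : PrimeSpectrum R, rankAtStalk (R := R) A p = n ^ 2)
    (hrk' : ∀ p : PrimeSpectrum R, rankAtStalk (R := R) A' p = n ^ 2)
    {S1 : Type u} [CommRing S1] [Algebra S S1] [Algebra.Etale S S1] [Module.FaithfullyFlat S S1]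
    (P : Rep lam t S1 n) (Q : Rep lam t' S1 n)
    (hpt : ∀ (T : Type u) [CommRing T] [Algebra S T] [Module.Flat S T] [HenselianLocalRing T]
      [IsSepClosed (IsLocalRing.ResidueField T)], (Roots S → ∀ x : Tˣ, ∃ y : T, y * y = x) →
      ∀ φ : S1 →ₐ[S] T, Sim (sg lam T) (P.push φ).u (Q.push φ).u) :
    AzInv.LocIsoEt S lam t t' := by
  obtain ⟨S2, _, _, _, _, hE, -, hFF, z, hz⟩ := exists_cover_solve (R := R) S1
    (fun T _ _ _ _ z => simSys lam T (P.u.map (bc R (IsScalarTower.toAlgHom S S1 T)))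
      (Q.u.map (bc R (IsScalarTower.toAlgHom S S1 T))) z)
    (fun T T' _ _ _ _ _ _ _ _ φ z k => by
      have hφ : ∀ u : Matrix (Fin n) (Fin n) (R ⊗[S] S1), u.map (bc R (IsScalarTower.toAlgHom S S1 T')) =
          (u.map (bc R (IsScalarTower.toAlgHom S S1 T))).map (bc R (φ.restrictScalars S)) := fun u => by
        ext i k
        simp only [Matrix.map_apply]
        rw [← bc_comp]
        congr 2
        exact AlgHom.ext fun x => (φ.commutes x).symm
      rw [← simSys_map]
      simp only [hφ])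
    (fun T _ _ _ _ _ _ _ hroot => by
      obtain ⟨v, c, hv, hc, hvc⟩ := hpt T hroot (IsScalarTower.toAlgHom S S1 T)
      obtain ⟨c', hc'⟩ := hc.exists_left_inv
      refine ⟨Sum.elim (Sum.elim (fun q => v q.1 q.2) (Sum.elim (fun q => v⁻¹ q.1 q.2) fun _ => c)) fun _ => c', fun k => ?_⟩
      rcases k with q | q | q
      · change (v * (P.push (IsScalarTower.toAlgHom S S1 T)).u * ctr (sg lam T) v -
          c • (Q.push (IsScalarTower.toAlgHom S S1 T)).u) q.1 q.2 = 0
        rw [hvc, sub_self]; rfl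
      · change (v * v⁻¹ - 1) q.1 q.2 = 0
        rw [Matrix.mul_nonsing_inv v hv, sub_self]; rfl
      · change c' * c - 1 = 0
        rw [hc', sub_self])
  haveI := hE
  haveI : Module.FaithfullyFlat S S2 := Module.FaithfullyFlat.trans S S1 S2
  refine locIso_of_sim hl hrk hrk' (P.push (IsScalarTower.toAlgHom S S1 S2)) (Q.push (IsScalarTower.toAlgHom S S1 S2))
    ⟨matU fun a => z (Sum.inl a), varE fun a => z (Sum.inl a), ?_, ?_, ?_⟩
  · refine IsUnit.of_mul_eq_one (matW fun a => z (Sum.inl a)).det ?_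
    rw [← Matrix.det_mul, show matU (fun a => z (Sum.inl a)) * matW (fun a => z (Sum.inl a)) = 1 from
      sub_eq_zero.1 (Matrix.ext fun i k => hz (Sum.inr (Sum.inl (i, k)))), Matrix.det_one]
  · exact IsUnit.of_mul_eq_one_right _ (sub_eq_zero.1 (hz (Sum.inr (Sum.inr ()))))
  · exact sub_eq_zero.1 (Matrix.ext fun i k => hz (Sum.inl (i, k)))

end AzClass29
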