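import Groth.Agent.Lib.AzClass29.Iso

/-!
# Models of matrix algebras, points, signs
-/

set_option autoImplicit false
set_option linter.style.haveILetI false

universe u v w

open TensorProduct Groth.Agent.Brauer25.SplitMap
open Module (rankAtStalk)
open RInv29 (ctr ctr_mul ctr_one ctr_ctr det_ctr)

namespace AzClass29

set_option maxHeartbeats 1000000

variable {S : Type u} {R : Type v} [CommRing S] [CommRing R] [Algebra S R] {lam : R ≃ₐ[S] R}
variable {A : Type w} [Ring A] [Algebra R A]

theorem rank_matrix [Module.Finite R A] [Module.Projective R A] {n : ℕ}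
    (hrk : ∀ p : PrimeSpectrum R, rankAtStalk (R := R) A p = n ^ 2) (a N : ℕ) (hN : a * n = N) :
    Module.Finite R (Matrix (Fin a) (Fin a) A) ∧ Module.Projective R (Matrix (Fin a) (Fin a) A) ∧
      ∀ p : PrimeSpectrum R, rankAtStalk (R := R) (Matrix (Fin a) (Fin a) A) p = N ^ 2 := by
  let ef : (Fin a × Fin a →₀ A) ≃ₗ[R] Matrix (Fin a) (Fin a) A :=
    (Finsupp.linearEquivFunOnFinite R A (Fin a × Fin a)).trans
      ((LinearEquiv.curry R A (Fin a) (Fin a)).trans (Matrix.ofLinearEquiv R))
  classical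
  haveI : Module.Projective R (Fin a × Fin a →₀ A) :=
    Module.Projective.of_equiv (finsuppLequivDFinsupp R).symm
  refine ⟨Module.Finite.equiv ef, Module.Projective.of_equiv ef, fun p => ?_⟩
  let e : (Fin a × Fin a → A) ≃ₗ[R] Matrix (Fin a) (Fin a) A :=
    (LinearEquiv.curry R A (Fin a) (Fin a)).trans (Matrix.ofLinearEquiv R)
  rw [← Module.rankAtStalk_eq_of_equiv e, Module.rankAtStalk_pi, finsum_eq_sum_of_fintype]
  simp only [hrk, Finset.sum_const, Finset.card_univ, Fintype.card_prod, Fintype.card_fin, smul_eq_mul, ← hN]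
  ring

section Matrix

variable {t : AzInv.LamInv R A lam} {T : Type u} [CommRing T] [Algebra S T]

/-- flatten blocks -/
noncomputable def flat (X : Type*) [CommRing X] [Algebra R X] (a n N : ℕ) (hN : a * n = N) :
    Matrix (Fin a) (Fin a) (Matrix (Fin n) (Fin n) X) ≃ₐ[R] Matrix (Fin N) (Fin N) X :=
  (Matrix.compAlgEquiv (Fin a) (Fin n) X R).trans
    (Matrix.reindexAlgEquiv R X (finProdFinEquiv.trans (finCongr hN)))

theorem flat_apply (X : Type*) [CommRing X] [Algebra R X] (a n N : ℕ) (hN : a * n = N)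
    (M : Matrix (Fin a) (Fin a) (Matrix (Fin n) (Fin n) X)) (i j : Fin a) (k l : Fin n) :
    flat (R := R) X a n N hN M (finCongr hN (finProdFinEquiv (i, k))) (finCongr hN (finProdFinEquiv (j, l))) = M i j k l := by
  simp [flat]

theorem flat_smul (X : Type*) [CommRing X] [Algebra R X] (a n N : ℕ) (hN : a * n = N) (c : X)
    (M : Matrix (Fin a) (Fin a) (Matrix (Fin n) (Fin n) X)) :
    flat (R := R) X a n N hN (c • M) = c • flat (R := R) X a n N hN M := by
  ext i j; simp [flat]

theorem ctr_flat (σ : R ⊗[S] T ≃+* R ⊗[S] T) (a n N : ℕ) (hN : a * n = N)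
    (M : Matrix (Fin a) (Fin a) (Matrix (Fin n) (Fin n) (R ⊗[S] T))) :
    ctr σ (flat (R := R) (R ⊗[S] T) a n N hN M) =
      flat (R := R) (R ⊗[S] T) a n N hN (Matrix.of fun i j => ctr σ (M j i)) := by
  ext i j; simp [flat, ctr]

theorem diag_ne {n' : ℕ} (u : Matrix (Fin n') (Fin n') (R ⊗[S] T)) {a : ℕ} {i j : Fin a} (h : i ≠ j) :
    (Matrix.diagonal fun _ : Fin a => u) i j = 0 := Matrix.diagonal_apply_ne _ h

/-- the model of a matrix algebra over `A` -/
noncomputable def Rep.matrix {n : ℕ} (P : Rep lam t T n) (a N : ℕ) (hN : a * n = N) :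
    Rep lam (t.matrix (Fin a)) T N where
  G := (flat (R := R) (R ⊗[S] T) a n N hN).toAlgHom.comp P.G.mapMatrix
  split := by
    refine eq_top_iff.2 fun M _ => ?_
    obtain ⟨M, rfl⟩ := (flat (R := R) (R ⊗[S] T) a n N hN).surjective M
    rw [Matrix.matrix_eq_sum_single M, map_sum]
    refine Submodule.sum_mem _ fun i _ => ?_
    rw [map_sum]
    refine Submodule.sum_mem _ fun j _ => ?_
    have hM : M i j ∈ Submodule.span (R ⊗[S] T) (Set.range P.G) := by rw [P.split]; trivial
    generalize M i j = X at hM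
    induction hM using Submodule.span_induction with
    | mem x hx =>
      obtain ⟨z, rfl⟩ := hx
      refine Submodule.subset_span ⟨Matrix.single i j z, ?_⟩
      change flat (R := R) _ a n N hN ((Matrix.single i j z).map P.G) = _
      rw [Matrix.map_single]
    | zero => simp
    | add x y _ _ hx hy => rw [Matrix.single_add, map_add]; exact add_mem hx hy
    | smul c x _ hx => rw [← Matrix.smul_single, flat_smul]; exact Submodule.smul_mem _ _ hx
  u := flat (R := R) (R ⊗[S] T) a n N hN (Matrix.diagonal fun _ => P.u)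
  ε := P.ε
  form :=
    { unit := by
        refine (Matrix.isUnit_iff_isUnit_det _).1 ?_
        refine IsUnit.map _ ?_
        refine ⟨⟨Matrix.diagonal fun _ => P.u, Matrix.diagonal fun _ => P.u⁻¹, ?_, ?_⟩, rfl⟩
        · rw [Matrix.diagonal_mul_diagonal, Matrix.mul_nonsing_inv _ P.form.unit, Matrix.diagonal_one]
        · rw [Matrix.diagonal_mul_diagonal, Matrix.nonsing_inv_mul _ P.form.unit, Matrix.diagonal_one]
      symm := by
        rw [ctr_flat, ← flat_smul]
        congr 1
        ext i j k l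
        rcases eq_or_ne i j with rfl | h
        · simpa using congrFun (congrFun P.form.symm k) l
        · simp [diag_ne P.u h, diag_ne P.u h.symm, ctr]
      norm := P.form.norm }
  eq M := by
    change flat (R := R) _ a n N hN ((t.matrix (Fin a) M).map P.G) * flat (R := R) _ a n N hN (Matrix.diagonal fun _ => P.u) =
      flat (R := R) _ a n N hN (Matrix.diagonal fun _ => P.u) *
        ctr (sg lam T) (flat (R := R) _ a n N hN (M.map P.G))
    rw [ctr_flat, ← map_mul, ← map_mul]
    congr 1
    refine Matrix.ext fun i j => ?_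
    rw [Matrix.mul_diagonal, Matrix.diagonal_mul]
    exact P.eq (M j i)

/-- the standard model of `M_n(R)` -/
noncomputable def stdRep {n : ℕ} (T : Type u) [CommRing T] [Algebra S T]
    (t' : AzInv.LamInv R (Matrix (Fin n) (Fin n) R) lam) {w : Matrix (Fin n) (Fin n) R} {e : R}
    (hw : Form lam.toRingEquiv w e) (ht : ∀ M, t' M * w = w * ctr lam.toRingEquiv M) : Rep lam t' T n where
  G := (Algebra.ofId R (R ⊗[S] T)).mapMatrix
  split := by
    refine eq_top_iff.2 fun M _ => ?_
    rw [Matrix.matrix_eq_sum_single M]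
    refine Submodule.sum_mem _ fun i _ => Submodule.sum_mem _ fun j _ => ?_
    rw [show Matrix.single i j (M i j) = M i j • Matrix.single i j (1 : R ⊗[S] T) by
      rw [Matrix.smul_single, smul_eq_mul, mul_one]]
    exact Submodule.smul_mem _ _ (Submodule.subset_span ⟨Matrix.single i j 1, by
      simp [AlgHom.mapMatrix_apply, Matrix.map_single, ← Algebra.TensorProduct.one_def]⟩)
  u := w.map (algebraMap R (R ⊗[S] T))
  ε := algebraMap R (R ⊗[S] T) e
  form :=
    { unit := by
        rw [← RingHom.mapMatrix_apply, ← RingHom.map_det]; exact hw.unit.map _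
      symm := by
        ext i j
        have h := congrFun (congrFun hw.symm i) j
        simp only [ctr, Matrix.transpose_apply, Matrix.map_apply, Matrix.smul_apply, smul_eq_mul] at h ⊢
        rw [sg_algebraMap, ← map_mul, ← h]
        rfl
      norm := by
        rw [sg_algebraMap, ← map_mul, show lam e * e = 1 from hw.norm, map_one] }
  eq M := by
    change (t' M).map (algebraMap R (R ⊗[S] T)) * w.map (algebraMap R (R ⊗[S] T)) =
      w.map (algebraMap R (R ⊗[S] T)) * ctr (sg lam T) (M.map (algebraMap R (R ⊗[S] T)))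
    rw [← Matrix.map_mul, ht, Matrix.map_mul]
    congr 1
    all_goals (ext i j; exact (sg_algebraMap lam T (M j i)).symm)

end Matrix

/-- points -/
theorem exists_point_at {S1 : Type u} [CommRing S1] [Algebra S S1] [Algebra.Etale S S1] (p : PrimeSpectrum S1) :
    ∃ (T : Type u) (_ : CommRing T) (_ : Algebra S T) (_ : HenselianLocalRing T) (φ : S1 →ₐ[S] T),
      Module.Flat S T ∧ IsSepClosed (IsLocalRing.ResidueField T) ∧ (Roots S → ∀ x : Tˣ, ∃ y : T, y * y = x) ∧
      ∀ x, φ x ∈ IsLocalRing.maximalIdeal T ↔ x ∈ p.asIdeal := by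
  let K := SeparableClosure p.asIdeal.ResidueField
  let T := Groth.Agent.Hens.Hs S1 K
  letI : Algebra S T := ((algebraMap S1 T).comp (algebraMap S S1)).toAlgebra
  haveI : IsScalarTower S S1 T := IsScalarTower.of_algebraMap_eq fun _ => rfl
  haveI : Module.Flat S T := Module.Flat.trans S S1 T
  refine ⟨T, inferInstance, inferInstance, inferInstance, IsScalarTower.toAlgHom S S1 T, inferInstance,
    AzSplit29.isSepClosed_residueField, fun hR x => sqrt_of_roots hR x, fun x => ?_⟩
  rw [IsScalarTower.coe_toAlgHom', ← Groth.Agent.Hens.Hs.res_eq_zero_iff, AlgHom.commutes,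
    IsScalarTower.algebraMap_apply S1 p.asIdeal.ResidueField K, map_eq_zero, Ideal.algebraMap_residueField_eq_zero]

theorem roots_of_two (h2 : IsUnit (2 : S)) : Roots S := fun S1 _ _ _ x => by
  have h := h2.map (algebraMap S S1)
  rw [map_ofNat] at h
  exact AzType29.exists_sqrt x h

theorem sub_mem_of_forall {T : Type u} [CommRing T] [Algebra S T] (q : Ideal (R ⊗[S] T))
    (h : ∀ r : R, algebraMap R (R ⊗[S] T) (lam r - r) ∈ q) (x : R ⊗[S] T) : sg lam T x - x ∈ q := by
  induction x using TensorProduct.induction_on with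
  | zero => simp
  | tmul r s =>
    rw [show sg lam T (r ⊗ₜ s) = lam r ⊗ₜ s by simp [sg], ← TensorProduct.sub_tmul,
      show (lam r - r) ⊗ₜ[S] s = algebraMap R (R ⊗[S] T) (lam r - r) * ((1 : R) ⊗ₜ s) by
        simp [Algebra.TensorProduct.algebraMap_apply]]
    exact q.mul_mem_right _ (h r)
  | add a b ha hb => rw [map_add, add_sub_add_comm]; exact q.add_mem ha hb

theorem exists_notMem_of_quadEtale (hl : Function.Involutive lam) (hfix : RInv.IsFixedRing S R lam.toRingEquiv)
    (hq : RInv.IsQuadEtale S R) (T : Type u) [CommRing T] [Algebra S T] [Module.Flat S T] [IsLocalRing T] :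
    ∃ a : R ⊗[S] T, sg lam T a - a ∉ Ring.jacobson (R ⊗[S] T) := by
  letI : Algebra T (R ⊗[S] T) := Algebra.TensorProduct.rightAlgebra
  obtain ⟨hfi, hpr, hun, hrk⟩ := hq
  have hqT : RInv.IsQuadEtale T (T ⊗[S] R) :=
    ⟨inferInstance, inferInstance, inferInstance, fun p => by rw [Module.rankAtStalk_baseChange]; exact hrk _⟩
  let L := Algebra.TensorProduct.congr (AlgEquiv.refl : T ≃ₐ[S] T) lam
  obtain ⟨r, hr⟩ := RInv29.exists_unit_of_quadEtale (lam := L.toRingEquiv)
    (fun x => by
      change L (L x) = x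
      induction x using TensorProduct.induction_on with
      | zero => simp
      | tmul s a => simp [L, hl a]
      | add a b ha hb => simp only [map_add, ha, hb])
    (RInv29.isFixedRing_baseChange T lam hl hfix (Or.inl inferInstance)) hqT
  let c := Algebra.TensorProduct.comm S T R
  have hc : ∀ x, c (L x) = sg lam T (c x) := fun x => by
    induction x using TensorProduct.induction_on with
    | zero => simp
    | tmul s a => simp [L, c, sg]
    | add a b ha hb => simp only [map_add, ha, hb]
  haveI : Nontrivial (R ⊗[S] T) := RInv29.nontrivial (fixed_bar lam hl hfix T)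
  obtain ⟨q, hq⟩ := Ideal.exists_maximal (R ⊗[S] T)
  refine ⟨c r, fun hmem => hq.ne_top (Ideal.eq_top_of_isUnit_mem q (q.neg_mem (RInv29.mem_jacobson_iff.1 hmem q hq)) ?_)⟩
  rw [neg_sub, ← hc, ← map_sub]
  exact hr.map _

theorem sim_of_case (hl : Function.Involutive lam) (hfix : RInv.IsFixedRing S R lam.toRingEquiv) (hR : Roots S)
    {T : Type u} [CommRing T] [Algebra S T] [Module.Flat S T] [HenselianLocalRing T]
    [IsSepClosed (IsLocalRing.ResidueField T)] (hroot : Roots S → ∀ x : Tˣ, ∃ y : T, y * y = x) {n : ℕ}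
    {u u' : Matrix (Fin n) (Fin n) (R ⊗[S] T)} {ε ε' : R ⊗[S] T} (hu : Form (sg lam T) u ε) (hu' : Form (sg lam T) u' ε')
    (hcase : IsUnit (2 : S) ∨ RInv.IsQuadEtale S R ∨ Odd n)
    (hsign : IsUnit (2 : R ⊗[S] T) → (∀ x : R ⊗[S] T, sg lam T x - x ∈ Ring.jacobson (R ⊗[S] T)) →
      ε - ε' ∈ Ring.jacobson (R ⊗[S] T)) :
    Sim (sg lam T) u u' := by
  letI : Algebra T (R ⊗[S] T) := Algebra.TensorProduct.rightAlgebra
  refine sim_of_sign_eq (sg_sg lam hl T) (fixed_bar lam hl hfix T) (hroot hR) hu hu' ?_ hsign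
  rcases hcase with h2 | hq | hn
  · refine Or.inr (Or.inl ?_)
    have := h2.map (algebraMap S (R ⊗[S] T))
    rwa [map_ofNat] at this
  · exact Or.inl (exists_notMem_of_quadEtale hl hfix hq T)
  · exact Or.inr (Or.inr hn)

end AzClass29
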