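import Groth.Agent.Lib.AzClass29.Basic
import Groth.Agent.Lib.AzClass29.Class

/-!
# Matrix models of Azumaya algebras with involution over étale covers of the fixed ring
-/

set_option autoImplicit false
set_option linter.style.haveILetI false

universe u v w w'

open TensorProduct Groth.Agent.Brauer25.SplitMap
open Module (rankAtStalk)
open RInv29 (ctr ctr_mul ctr_one ctr_ctr det_ctr)

namespace AzClass29

set_option maxHeartbeats 1000000

variable {S : Type u} {R : Type v} [CommRing S] [CommRing R] [Algebra S R]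

/-- the involution of `R ⊗ T`, as a ring automorphism -/
noncomputable abbrev sg (lam : R ≃ₐ[S] R) (T : Type u) [CommRing T] [Algebra S T] : R ⊗[S] T ≃+* R ⊗[S] T :=
  (bar lam T).toRingEquiv

variable (lam : R ≃ₐ[S] R)

theorem sg_sg (hl : Function.Involutive lam) (T : Type u) [CommRing T] [Algebra S T] :
    Function.Involutive (sg lam T) := bar_bar lam hl T

theorem sg_algebraMap (T : Type u) [CommRing T] [Algebra S T] (r : R) :
    sg lam T (algebraMap R (R ⊗[S] T) r) = algebraMap R (R ⊗[S] T) (lam r) := by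
  simp [sg, Algebra.TensorProduct.algebraMap_apply]

theorem sg_tmul_one (T : Type u) [CommRing T] [Algebra S T] (s : T) :
    sg lam T ((1 : R) ⊗ₜ[S] s) = (1 : R) ⊗ₜ[S] s := by
  simp [sg]

theorem map_ctr {ι : Type} {T T' : Type u} [CommRing T] [Algebra S T] [CommRing T'] [Algebra S T'] (φ : T →ₐ[S] T')
    (M : Matrix ι ι (R ⊗[S] T)) : (ctr (sg lam T) M).map (bc R φ) = ctr (sg lam T') (M.map (bc R φ)) := by
  ext i j
  exact bc_bar lam φ (M j i)

/-- the fixed ring of `R ⊗ T` -/
theorem fixed_bar (hl : Function.Involutive lam) (hfix : RInv.IsFixedRing S R lam.toRingEquiv) (T : Type u)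
    [CommRing T] [Algebra S T] [Module.Flat S T] :
    letI : Algebra T (R ⊗[S] T) := Algebra.TensorProduct.rightAlgebra
    RInv.IsFixedRing T (R ⊗[S] T) (sg lam T) := by
  letI : Algebra T (R ⊗[S] T) := Algebra.TensorProduct.rightAlgebra
  obtain ⟨h1, h2⟩ := RInv29.isFixedRing_baseChange T lam hl hfix (Or.inl inferInstance)
  let c := Algebra.TensorProduct.comm S R T
  have halg : ∀ s : T, c (algebraMap T (R ⊗[S] T) s) = algebraMap T (T ⊗[S] R) s := fun s => by
    change c ((1 : R) ⊗ₜ s) = s ⊗ₜ (1 : R)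
    rfl
  have hσ : ∀ x, c (sg lam T x) = Algebra.TensorProduct.congr (AlgEquiv.refl : T ≃ₐ[S] T) lam (c x) := fun x => by
    induction x using TensorProduct.induction_on with
    | zero => simp
    | tmul r t => simp [c, sg]
    | add x y hx hy => simp only [map_add, hx, hy]
  refine ⟨fun a b hab => h1 (by rw [← halg, ← halg, hab]), fun x => ?_⟩
  constructor
  · intro hx
    obtain ⟨s, hs⟩ := (h2 (c x)).1 (by
      change Algebra.TensorProduct.congr (AlgEquiv.refl : T ≃ₐ[S] T) lam (c x) = c x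
      rw [← hσ, hx])
    exact ⟨s, c.injective (by rw [halg, hs])⟩
  · rintro ⟨s, rfl⟩
    exact sg_tmul_one lam T s

variable {A : Type w} [Ring A] [Algebra R A]

/-- a matrix model of an algebra with involution over `R ⊗ T` -/
structure Rep (t : AzInv.LamInv R A lam) (T : Type u) [CommRing T] [Algebra S T] (n : ℕ) where
  /-- the splitting -/
  G : A →ₐ[R] Matrix (Fin n) (Fin n) (R ⊗[S] T)
  split : IsSplitting G
  /-- the twisting matrix -/
  u : Matrix (Fin n) (Fin n) (R ⊗[S] T)
  /-- the sign -/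
  ε : R ⊗[S] T
  form : Form (sg lam T) u ε
  eq : ∀ a, G (t a) * u = u * ctr (sg lam T) (G a)

variable {lam} {t : AzInv.LamInv R A lam}

theorem Form.map {T T' : Type u} [CommRing T] [Algebra S T] [CommRing T'] [Algebra S T'] (φ : T →ₐ[S] T') {n : ℕ}
    {u : Matrix (Fin n) (Fin n) (R ⊗[S] T)} {ε : R ⊗[S] T} (h : Form (sg lam T) u ε) :
    Form (sg lam T') (u.map (bc R φ)) (bc R φ ε) where
  unit := by
    rw [show (u.map (bc R φ)).det = bc R φ u.det from ((bc R φ).map_det u).symm]
    exact h.unit.map _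
  symm := by rw [← map_ctr, h.symm, Matrix.map_smul' _ _ _ (map_mul (bc R φ))]
  norm := by
    show bar lam T' (bc R φ ε) * bc R φ ε = 1
    rw [← bc_bar, ← map_mul, show bar lam T ε * ε = 1 from h.norm, map_one]

/-- base change of a model -/
noncomputable def Rep.push {T T' : Type u} [CommRing T] [Algebra S T] [CommRing T'] [Algebra S T'] {n : ℕ}
    (P : Rep lam t T n) (φ : T →ₐ[S] T') : Rep lam t T' n where
  G := Groth.Agent.Brauer25.SplitMap.push (bc R φ) P.G
  split := isSplitting_push (bc R φ) P.split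
  u := P.u.map (bc R φ)
  ε := bc R φ P.ε
  form := P.form.map φ
  eq a := by
    rw [push_apply, push_apply, ← map_ctr, ← Matrix.map_mul, ← Matrix.map_mul, P.eq]

theorem smul_algebraMap_comm {T : Type u} [CommRing T] [Algebra S T] {n : ℕ} (r : R)
    (M : Matrix (Fin n) (Fin n) (R ⊗[S] T)) :
    ctr (sg lam T) (r • M) = (lam r) • ctr (sg lam T) M := by
  rw [← algebraMap_smul (R ⊗[S] T) r M, ctr_smul, sg_algebraMap, algebraMap_smul]

/-- it is enough to test on generators -/
theorem eq_of_gens {T : Type u} [CommRing T] [Algebra S T] {n m : ℕ} (gen : Fin m → A)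
    (hgen : Submodule.span R (Set.range gen) = ⊤) (G : A →ₐ[R] Matrix (Fin n) (Fin n) (R ⊗[S] T))
    (u : Matrix (Fin n) (Fin n) (R ⊗[S] T)) (h : ∀ i, G (t (gen i)) * u = u * ctr (sg lam T) (G (gen i))) (a : A) :
    G (t a) * u = u * ctr (sg lam T) (G a) := by
  have ha : a ∈ Submodule.span R (Set.range gen) := by rw [hgen]; trivial
  induction ha using Submodule.span_induction with
  | mem x hx => obtain ⟨i, rfl⟩ := hx; exact h i
  | zero => simp [ctr]
  | add x y _ _ hx hy =>
    rw [t.map_add, map_add, map_add, Matrix.add_mul, hx, hy, ← Matrix.mul_add]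
    congr 1
    ext i j
    simp [ctr]
  | smul c x _ hx =>
    rw [t.map_smul, map_smul, map_smul, smul_algebraMap_comm, Matrix.smul_mul, hx, Matrix.mul_smul]

variable (t)

/-- the `ctr`-twist of a splitting -/
noncomputable def twistHom (hl : Function.Involutive lam) {T : Type u} [CommRing T] [Algebra S T] {n : ℕ}
    (G : A →ₐ[R] Matrix (Fin n) (Fin n) (R ⊗[S] T)) : A →ₐ[R] Matrix (Fin n) (Fin n) (R ⊗[S] T) :=
  AlgHom.ofLinearMap
    { toFun := fun a => ctr (sg lam T) (G (t a))
      map_add' := fun a b => by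
        rw [t.map_add, map_add]
        ext i j
        simp [ctr]
      map_smul' := fun r a => by rw [t.map_smul, map_smul, smul_algebraMap_comm, hl r, RingHom.id_apply] }
    (by
      change ctr (sg lam T) (G (t 1)) = 1
      rw [t.map_one, map_one, ctr_one])
    (fun a b => by
      change ctr (sg lam T) (G (t (a * b))) = ctr (sg lam T) (G (t a)) * ctr (sg lam T) (G (t b))
      rw [t.map_mul, map_mul, ctr_mul])

theorem twistHom_apply (hl : Function.Involutive lam) {T : Type u} [CommRing T] [Algebra S T] {n : ℕ}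
    (G : A →ₐ[R] Matrix (Fin n) (Fin n) (R ⊗[S] T)) (a : A) : twistHom t hl G a = ctr (sg lam T) (G (t a)) := rfl

theorem isSplitting_twistHom (hl : Function.Involutive lam) {T : Type u} [CommRing T] [Algebra S T] {n : ℕ}
    {G : A →ₐ[R] Matrix (Fin n) (Fin n) (R ⊗[S] T)} (hG : IsSplitting G) : IsSplitting (twistHom t hl G) := by
  refine eq_top_iff.2 fun M _ => ?_
  rw [← ctr_ctr (sg_sg lam hl T) M]
  have hM : ctr (sg lam T) M ∈ Submodule.span (R ⊗[S] T) (Set.range G) := by rw [hG]; trivial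
  generalize ctr (sg lam T) M = N at hM
  induction hM using Submodule.span_induction with
  | mem x hx =>
    obtain ⟨a, rfl⟩ := hx
    exact Submodule.subset_span ⟨t a, by rw [twistHom_apply, t.invol]⟩
  | zero => simp [ctr]
  | add x y _ _ hx hy =>
    rw [show ctr (sg lam T) (x + y) = ctr (sg lam T) x + ctr (sg lam T) y by ext i j; simp [ctr]]
    exact add_mem hx hy
  | smul c x _ hx => rw [ctr_smul]; exact Submodule.smul_mem _ _ hx

/-- two splittings over a local point are conjugate -/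
theorem exists_conj (hl : Function.Involutive lam) (hfix : RInv.IsFixedRing S R lam.toRingEquiv)
    [Module.Finite R A] [Module.Projective R A] {n : ℕ} (hrk : ∀ p : PrimeSpectrum R, rankAtStalk (R := R) A p = n ^ 2)
    (T : Type u) [CommRing T] [Algebra S T] [Module.Flat S T] [IsLocalRing T]
    {F G : A →ₐ[R] Matrix (Fin n) (Fin n) (R ⊗[S] T)} (hF : IsSplitting F) (hG : IsSplitting G) :
    ∃ X : Matrix (Fin n) (Fin n) (R ⊗[S] T), IsUnit X.det ∧ ∀ a, G a * X = X * F a := by
  classical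
  letI : Algebra T (R ⊗[S] T) := Algebra.TensorProduct.rightAlgebra
  have hfixT := fixed_bar lam hl hfix T
  obtain ⟨m, gen, hgen⟩ := Module.Finite.exists_fin (R := R) (M := A)
  have loc : ∀ (q : Ideal (R ⊗[S] T)) [q.IsPrime], ∃ X : Matrix (Fin n) (Fin n) (R ⊗[S] T), X.det ∉ q ∧
      ∀ a, G a * X = X * F a := by
    intro q _
    let L := Localization.AtPrime q
    let π := algebraMap (R ⊗[S] T) L
    obtain ⟨U, hU⟩ := exists_conj_local hrk hF hG q
    obtain ⟨⟨s, hs⟩, hsU⟩ := IsLocalization.exist_integer_multiples q.primeCompl (Finset.univ : Finset (Fin n × Fin n))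
      fun ij => (U : Matrix (Fin n) (Fin n) L) ij.1 ij.2
    choose X hX using fun ij => hsU ij (Finset.mem_univ ij)
    let X0 : Matrix (Fin n) (Fin n) (R ⊗[S] T) := Matrix.of fun i j => X (i, j)
    have hX0 : X0.map π = π s • (U : Matrix (Fin n) (Fin n) L) := by
      ext i j
      rw [Matrix.map_apply, Matrix.smul_apply]
      exact (hX (i, j)).trans (Algebra.smul_def _ _)
    have hGU : ∀ a, (G a).map π * X0.map π = X0.map π * (F a).map π := fun a => by
      rw [hX0, Matrix.mul_smul, Matrix.smul_mul, hU a]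
      simp only [Matrix.mul_assoc, Units.inv_mul, Matrix.mul_one]
      rfl
    have hz : ∀ k : Fin m × Fin n × Fin n, ∃ c : q.primeCompl,
        (c : R ⊗[S] T) * (G (gen k.1) * X0) k.2.1 k.2.2 = c * (X0 * F (gen k.1)) k.2.1 k.2.2 := fun k => by
      refine (IsLocalization.eq_iff_exists q.primeCompl L).1 ?_
      have h := congrFun (congrFun (hGU (gen k.1)) k.2.1) k.2.2
      rw [← Matrix.map_mul, ← Matrix.map_mul] at h
      exact h
    choose c hc using hz
    set C : R ⊗[S] T := ((∏ k, c k : q.primeCompl) : R ⊗[S] T)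
    refine ⟨C • X0, ?_, fun a => ?_⟩
    · rw [Matrix.det_smul]
      refine fun hmem => ?_
      rcases Ideal.IsPrime.mem_or_mem ‹q.IsPrime› hmem with h1 | h1
      · exact q.primeCompl.pow_mem (∏ k, c k : q.primeCompl).2 _ h1
      · have hu : IsUnit (π X0.det) := by
          rw [RingHom.map_det, RingHom.mapMatrix_apply, hX0, Matrix.det_smul]
          exact ((IsLocalization.map_units L ⟨s, hs⟩).pow _).mul ((Matrix.isUnit_iff_isUnit_det _).1 U.isUnit)
        exact ((IsLocalization.AtPrime.isUnit_to_map_iff L q X0.det).1 hu) h1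
    · have ha : a ∈ Submodule.span R (Set.range gen) := by rw [hgen]; trivial
      induction ha using Submodule.span_induction with
      | mem x hx =>
        obtain ⟨i, rfl⟩ := hx
        rw [Matrix.mul_smul, Matrix.smul_mul]
        ext j k
        obtain ⟨d, hd⟩ := Finset.dvd_prod_of_mem c (Finset.mem_univ (i, j, k))
        simp only [Matrix.smul_apply, smul_eq_mul, C, hd, Submonoid.coe_mul]
        linear_combination (d : R ⊗[S] T) * hc (i, j, k)
      | zero => simp
      | add x y _ _ hx hy => rw [map_add, map_add, Matrix.add_mul, Matrix.mul_add, hx, hy]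
      | smul r x _ hx => rw [map_smul, map_smul, Matrix.smul_mul, hx, Matrix.mul_smul]
  haveI := RInv29.nontrivial hfixT
  obtain ⟨q, hq⟩ := Ideal.exists_maximal (R ⊗[S] T)
  haveI hq' : (RInv29.conjIdeal (sg lam T) q).IsMaximal :=
    Ideal.comap_isMaximal_of_surjective _ (sg lam T).surjective
  obtain ⟨X, hX, hXa⟩ := loc q
  obtain ⟨Y, hY, hYa⟩ := loc (RInv29.conjIdeal (sg lam T) q)
  have hunit : ∀ {Z : Matrix (Fin n) (Fin n) (R ⊗[S] T)}, Z.det ∉ q → Z.det ∉ RInv29.conjIdeal (sg lam T) q →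
      IsUnit Z.det := by
    intro Z h1 h2
    by_contra hnu
    obtain ⟨q', _, hmem⟩ := exists_max_ideal_of_mem_nonunits hnu
    rcases RInv29.maximal_eq (sg_sg lam hl T) hfixT q q' with rfl | rfl
    · exact h1 hmem
    · exact h2 hmem
  by_cases hqq : RInv29.conjIdeal (sg lam T) q = q
  · exact ⟨X, hunit hX (by rw [hqq]; exact hX), hXa⟩
  obtain ⟨a, ha1, ha2⟩ : ∃ a, a ∈ RInv29.conjIdeal (sg lam T) q ∧ a ∉ q :=
    Set.not_subset.1 fun hle => hqq (hq'.eq_of_le hq.ne_top hle)
  obtain ⟨b, hb1, hb2⟩ : ∃ b, b ∈ q ∧ b ∉ RInv29.conjIdeal (sg lam T) q :=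
    Set.not_subset.1 fun hle => hqq (hq.eq_of_le hq'.ne_top hle).symm
  refine ⟨a • X + b • Y, hunit ?_ ?_, fun z => ?_⟩
  · intro hmem
    have h0 := Ideal.Quotient.eq_zero_iff_mem.2 hb1
    have he : (a • X + b • Y).map (Ideal.Quotient.mk q) = (a • X).map (Ideal.Quotient.mk q) :=
      Matrix.ext fun i j => by simp [h0]
    rw [← Ideal.Quotient.eq_zero_iff_mem, RingHom.map_det, RingHom.mapMatrix_apply, he, ← RingHom.mapMatrix_apply,
      ← RingHom.map_det, Ideal.Quotient.eq_zero_iff_mem, Matrix.det_smul] at hmem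
    rcases hq.isPrime.mem_or_mem hmem with h | h
    · exact ha2 (hq.isPrime.mem_of_pow_mem _ h)
    · exact hX h
  · intro hmem
    have h0 := Ideal.Quotient.eq_zero_iff_mem.2 ha1
    have he : (a • X + b • Y).map (Ideal.Quotient.mk (RInv29.conjIdeal (sg lam T) q)) =
        (b • Y).map (Ideal.Quotient.mk (RInv29.conjIdeal (sg lam T) q)) :=
      Matrix.ext fun i j => by simp [h0]
    rw [← Ideal.Quotient.eq_zero_iff_mem, RingHom.map_det, RingHom.mapMatrix_apply, he, ← RingHom.mapMatrix_apply,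
      ← RingHom.map_det, Ideal.Quotient.eq_zero_iff_mem, Matrix.det_smul] at hmem
    rcases hq'.isPrime.mem_or_mem hmem with h | h
    · exact hb2 (hq'.isPrime.mem_of_pow_mem _ h)
    · exact hY h
  · rw [Matrix.mul_add, Matrix.add_mul, Matrix.mul_smul, Matrix.mul_smul, Matrix.smul_mul, Matrix.smul_mul, hXa, hYa]

theorem eq_scalar_of_commute {X : Type w'} [CommRing X] [Algebra R X] {n : ℕ} {G : A →ₐ[R] Matrix (Fin n) (Fin n) X}
    (hG : IsSplitting G) {z : Matrix (Fin n) (Fin n) X} (hz : ∀ a, z * G a = G a * z) : ∃ c : X, z = c • 1 := by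
  have hall : ∀ M, z * M = M * z := fun M => by
    have hM : M ∈ Submodule.span X (Set.range G) := by rw [hG]; trivial
    induction hM using Submodule.span_induction with
    | mem M hM => obtain ⟨a, rfl⟩ := hM; exact hz a
    | zero => simp
    | add a b _ _ ha hb => rw [Matrix.mul_add, Matrix.add_mul, ha, hb]
    | smul c a _ ha => rw [Matrix.mul_smul, Matrix.smul_mul, ha]
  obtain ⟨c, hc⟩ := Matrix.mem_range_scalar_iff_commute_single'.2 fun i k => (hall (Matrix.single i k 1)).symm
  exact ⟨c, by rw [← hc]; ext i k; simp [Matrix.one_apply, Matrix.diagonal_apply]⟩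

theorem exists_scalar {T : Type u} [CommRing T] [Algebra S T] {n : ℕ} (hl : Function.Involutive lam)
    {G : A →ₐ[R] Matrix (Fin n) (Fin n) (R ⊗[S] T)} (hG : IsSplitting G) {z : Matrix (Fin n) (Fin n) (R ⊗[S] T)}
    (hz : ∀ a, z * ctr (sg lam T) (G a) = ctr (sg lam T) (G a) * z) : ∃ c : R ⊗[S] T, z = c • 1 := by
  obtain ⟨c, hc⟩ := eq_scalar_of_commute hG (z := ctr (sg lam T) z) fun a => by
    have h := congrArg (ctr (sg lam T)) (hz a)
    rw [ctr_mul, ctr_mul, ctr_ctr (sg_sg lam hl T)] at h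
    exact h.symm
  refine ⟨sg lam T c, ?_⟩
  rw [← ctr_ctr (sg_sg lam hl T) z, hc, ctr_smul, ctr_one]

/-- uniqueness of models over a local point -/
theorem Rep.sim (hl : Function.Involutive lam) (hfix : RInv.IsFixedRing S R lam.toRingEquiv)
    [Module.Finite R A] [Module.Projective R A] {n : ℕ} (hn : 0 < n) (hrk : ∀ p : PrimeSpectrum R, rankAtStalk (R := R) A p = n ^ 2)
    {T : Type u} [CommRing T] [Algebra S T] [Module.Flat S T] [IsLocalRing T] (P Q : Rep lam t T n) :
    Sim (sg lam T) P.u Q.u := by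
  obtain ⟨X, hX, hXa⟩ := exists_conj hl hfix hrk T P.split Q.split
  set u2 := X * P.u * ctr (sg lam T) X
  have hu2 : ∀ a, Q.G (t a) * u2 = u2 * ctr (sg lam T) (Q.G a) := fun a => by
    calc Q.G (t a) * u2 = X * (P.G (t a) * P.u) * ctr (sg lam T) X := by
          simp only [u2, ← Matrix.mul_assoc, hXa]
      _ = X * P.u * ctr (sg lam T) (X * P.G a) := by
          rw [P.eq, ctr_mul]; simp only [Matrix.mul_assoc]
      _ = u2 * ctr (sg lam T) (Q.G a) := by
          rw [← hXa, ctr_mul]; simp only [u2, Matrix.mul_assoc]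
  have hz : ∀ a, (Q.u⁻¹ * u2) * ctr (sg lam T) (Q.G a) = ctr (sg lam T) (Q.G a) * (Q.u⁻¹ * u2) := fun a => by
    rw [Matrix.mul_assoc, ← hu2, ← Matrix.mul_assoc Q.u⁻¹, ← Matrix.mul_assoc (ctr (sg lam T) (Q.G a))]
    congr 1
    calc Q.u⁻¹ * Q.G (t a) = Q.u⁻¹ * (Q.G (t a) * Q.u) * Q.u⁻¹ := by
          rw [Matrix.mul_assoc Q.u⁻¹, Matrix.mul_assoc (Q.G (t a)), Matrix.mul_nonsing_inv _ Q.form.unit, Matrix.mul_one]
      _ = ctr (sg lam T) (Q.G a) * Q.u⁻¹ := by
          rw [Q.eq, ← Matrix.mul_assoc Q.u⁻¹, Matrix.nonsing_inv_mul _ Q.form.unit, Matrix.one_mul]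
  obtain ⟨c, hc⟩ := exists_scalar hl Q.split hz
  have heq : u2 = c • Q.u := by
    have := congrArg (Q.u * ·) hc
    simp only [← Matrix.mul_assoc, Matrix.mul_nonsing_inv _ Q.form.unit, Matrix.one_mul, Matrix.mul_smul, Matrix.mul_one] at this
    exact this
  refine ⟨X, c, hX, ?_, heq⟩
  have hu2u : IsUnit u2.det := by
    rw [Matrix.det_mul, Matrix.det_mul, det_ctr]
    exact (hX.mul P.form.unit).mul (hX.map _)
  rw [heq, Matrix.det_smul, Fintype.card_fin] at hu2u
  exact (isUnit_pow_iff hn.ne').1 (isUnit_of_mul_isUnit_left hu2u)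

/-- the twisting data at a local point -/
theorem exists_twist (hl : Function.Involutive lam) (hfix : RInv.IsFixedRing S R lam.toRingEquiv)
    [Module.Finite R A] [Module.Projective R A] {n : ℕ} (hn : 0 < n) (hrk : ∀ p : PrimeSpectrum R, rankAtStalk (R := R) A p = n ^ 2)
    {T : Type u} [CommRing T] [Algebra S T] [Module.Flat S T] [IsLocalRing T]
    {G : A →ₐ[R] Matrix (Fin n) (Fin n) (R ⊗[S] T)} (hG : IsSplitting G) :
    ∃ u ε, Form (sg lam T) u ε ∧ ∀ a, G (t a) * u = u * ctr (sg lam T) (G a) := by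
  obtain ⟨U, hU, hUa⟩ := exists_conj hl hfix hrk T hG (isSplitting_twistHom t hl hG)
  set V := ctr (sg lam T) U
  have hV : IsUnit V.det := by rw [det_ctr]; exact hU.map _
  have hVa : ∀ a, V * G (t a) = ctr (sg lam T) (G a) * V := fun a => by
    have h := congrArg (ctr (sg lam T)) (hUa a)
    rw [ctr_mul, ctr_mul, twistHom_apply, ctr_ctr (sg_sg lam hl T)] at h
    exact h
  set u := V⁻¹
  have hu : IsUnit u.det := Matrix.isUnit_nonsing_inv_det _ hV
  have heq : ∀ a, G (t a) * u = u * ctr (sg lam T) (G a) := fun a => by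
    calc G (t a) * u = u * (V * G (t a)) * u := by
          rw [← Matrix.mul_assoc, Matrix.nonsing_inv_mul _ hV, Matrix.one_mul]
      _ = u * ctr (sg lam T) (G a) := by
          rw [hVa, Matrix.mul_assoc, Matrix.mul_assoc, Matrix.mul_nonsing_inv _ hV, Matrix.mul_one]
  have hz : ∀ a, (u⁻¹ * ctr (sg lam T) u) * ctr (sg lam T) (G a) = ctr (sg lam T) (G a) * (u⁻¹ * ctr (sg lam T) u) := fun a => by
    have h := congrArg (ctr (sg lam T)) (heq (t a))
    rw [t.invol, ctr_mul, ctr_mul, ctr_ctr (sg_sg lam hl T)] at h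
    rw [Matrix.mul_assoc, h, ← Matrix.mul_assoc, ← Matrix.mul_assoc]
    congr 1
    rw [Matrix.nonsing_inv_nonsing_inv V hV, hVa]
  obtain ⟨c, hc⟩ := exists_scalar hl hG hz
  have hsym : ctr (sg lam T) u = c • u := by
    have := congrArg (u * ·) hc
    simp only [← Matrix.mul_assoc, Matrix.mul_nonsing_inv _ hu, Matrix.one_mul, Matrix.mul_smul, Matrix.mul_one] at this
    exact this
  refine ⟨u, c, ⟨hu, hsym, eq_of_smul_eq hu hn ?_⟩, heq⟩
  have h2 := congrArg (ctr (sg lam T)) hsym
  rw [ctr_ctr (sg_sg lam hl T), ctr_smul, hsym, smul_smul] at h2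
  rw [one_smul, ← h2]

/-- unknowns: a matrix, its inverse, a scalar -/
abbrev Vars (n : ℕ) : Type := (Fin n × Fin n) ⊕ (Fin n × Fin n) ⊕ Unit

/-- first matrix of unknowns -/
def matU {X : Type w'} {n : ℕ} (z : Vars n → X) : Matrix (Fin n) (Fin n) X := Matrix.of fun i k => z (Sum.inl (i, k))

/-- second matrix of unknowns -/
def matW {X : Type w'} {n : ℕ} (z : Vars n → X) : Matrix (Fin n) (Fin n) X :=
  Matrix.of fun i k => z (Sum.inr (Sum.inl (i, k)))

/-- the scalar unknown -/
def varE {X : Type w'} {n : ℕ} (z : Vars n → X) : X := z (Sum.inr (Sum.inr ()))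

variable (lam) in
/-- the equations of a twisting matrix -/
noncomputable def twistSys {m n : ℕ} (T : Type u) [CommRing T] [Algebra S T]
    (M N : Fin m → Matrix (Fin n) (Fin n) (R ⊗[S] T)) (z : Vars n → R ⊗[S] T) :
    (Fin m × Fin n × Fin n) ⊕ (Fin n × Fin n) ⊕ (Fin n × Fin n) ⊕ Unit → R ⊗[S] T
  | Sum.inl q => (M q.1 * matU z - matU z * ctr (sg lam T) (N q.1)) q.2.1 q.2.2
  | Sum.inr (Sum.inl q) => (matU z * matW z - 1) q.1 q.2
  | Sum.inr (Sum.inr (Sum.inl q)) => (ctr (sg lam T) (matU z) - varE z • matU z) q.1 q.2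
  | Sum.inr (Sum.inr (Sum.inr _)) => sg lam T (varE z) * varE z - 1

theorem twistSys_map {m n : ℕ} {T T' : Type u} [CommRing T] [Algebra S T] [CommRing T'] [Algebra S T']
    (φ : T →ₐ[S] T') (M N : Fin m → Matrix (Fin n) (Fin n) (R ⊗[S] T)) (z : Vars n → R ⊗[S] T)
    (k : (Fin m × Fin n × Fin n) ⊕ (Fin n × Fin n) ⊕ (Fin n × Fin n) ⊕ Unit) :
    twistSys lam T' (fun i => (M i).map (bc R φ)) (fun i => (N i).map (bc R φ)) (fun a => bc R φ (z a)) k =
      bc R φ (twistSys lam T M N z k) := by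
  have hU : matU (fun a => bc R φ (z a)) = (matU z).map (bc R φ) := rfl
  have hW : matW (fun a => bc R φ (z a)) = (matW z).map (bc R φ) := rfl
  have hE : varE (fun a => bc R φ (z a)) = bc R φ (varE z) := rfl
  rcases k with q | q | q | q
  · simp only [twistSys]
    rw [hU, ← map_ctr, ← Matrix.map_mul, ← Matrix.map_mul, ← Matrix.map_sub _ (map_sub (bc R φ))]
    rfl
  · simp only [twistSys]
    rw [hU, hW, ← Matrix.map_mul, ← Matrix.map_one (bc R φ) (map_zero (bc R φ)) (map_one (bc R φ)),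
      ← Matrix.map_sub _ (map_sub (bc R φ))]
    rfl
  · simp only [twistSys]
    rw [hU, hE, ← map_ctr, ← Matrix.map_smul' _ _ _ (map_mul (bc R φ)), ← Matrix.map_sub _ (map_sub (bc R φ))]
    rfl
  · simp only [twistSys]
    rw [hE, map_sub, map_mul, map_one, show sg lam T' (bc R φ (varE z)) = bc R φ (sg lam T (varE z)) from
      (bc_bar lam φ _).symm]

/-- a model exists over an étale cover -/
theorem exists_rep (hl : Function.Involutive lam) (hfix : RInv.IsFixedRing S R lam.toRingEquiv)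
    {n : ℕ} (hn : 0 < n) (hA : AzInv.IsAzumayaDeg R A n) (S0 : Type u) [CommRing S0] [Algebra S S0]
    [Algebra.Etale S S0] :
    ∃ (S2 : Type u) (_ : CommRing S2) (_ : Algebra S S2) (_ : Algebra S0 S2) (_ : IsScalarTower S S0 S2),
      Algebra.Etale S S2 ∧ Module.FaithfullyFlat S0 S2 ∧ Nonempty (Rep lam t S2 n) := by
  classical
  haveI := hA.1
  obtain ⟨E0, _, _, _, _, F0, hF0⟩ := AzType29.exists_etale_split' hA
  obtain ⟨S', _, _, _, _, ⟨j⟩⟩ := AzSplit29.exists_cover_hom lam hl hfix E0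
  let S1 := S0 ⊗[S] S'
  haveI : Algebra.Etale S S1 := Algebra.Etale.comp S S0 S1
  let G1 := Groth.Agent.Brauer25.SplitMap.push (bc R (Algebra.TensorProduct.includeRight : S' →ₐ[S] S1))
    (Groth.Agent.Brauer25.SplitMap.push j F0)
  have hG1 : IsSplitting G1 := isSplitting_push _ (isSplitting_push j hF0)
  obtain ⟨m, gen, hgen⟩ := Module.Finite.exists_fin (R := R) (M := A)
  let GT : ∀ (T : Type u) [CommRing T] [Algebra S T] [Algebra S1 T] [IsScalarTower S S1 T],
      A →ₐ[R] Matrix (Fin n) (Fin n) (R ⊗[S] T) :=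
    fun T _ _ _ _ => Groth.Agent.Brauer25.SplitMap.push (bc R (IsScalarTower.toAlgHom S S1 T)) G1
  obtain ⟨S2, _, _, _, _, hE, -, hFF, z, hz⟩ := exists_cover_solve (R := R) S1
    (fun T _ _ _ _ z => twistSys lam T (fun i => GT T (t (gen i))) (fun i => GT T (gen i)) z)
    (fun T T' _ _ _ _ _ _ _ _ φ z k => by
      have hG : ∀ a, GT T' a = (GT T a).map (bc R (φ.restrictScalars S)) := fun a => by
        ext i k
        simp only [GT, Matrix.map_apply, push_apply]
        rw [← bc_comp]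
        congr 2
        exact AlgHom.ext fun x => (φ.commutes x).symm
      rw [← twistSys_map]
      simp only [hG])
    (fun T _ _ _ _ _ _ _ _ => by
      obtain ⟨u, ε, hu, heq⟩ := exists_twist t hl hfix hn hA.2 (T := T) (G := GT T) (isSplitting_push _ hG1)
      refine ⟨Sum.elim (fun q => u q.1 q.2) (Sum.elim (fun q => u⁻¹ q.1 q.2) fun _ => ε), fun k => ?_⟩
      have hU : matU (Sum.elim (fun q : Fin n × Fin n => u q.1 q.2) (Sum.elim (fun q => u⁻¹ q.1 q.2) fun _ : Unit => ε)) = u := rfl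
      have hW : matW (Sum.elim (fun q : Fin n × Fin n => u q.1 q.2) (Sum.elim (fun q => u⁻¹ q.1 q.2) fun _ : Unit => ε)) = u⁻¹ := rfl
      have hεz : varE (Sum.elim (fun q : Fin n × Fin n => u q.1 q.2) (Sum.elim (fun q => u⁻¹ q.1 q.2) fun _ : Unit => ε)) = ε := rfl
      rcases k with q | q | q | q <;> simp only [twistSys, hU, hW, hεz]
      · rw [heq, sub_self]; rfl
      · rw [Matrix.mul_nonsing_inv _ hu.unit, sub_self]; rfl
      · rw [hu.symm, sub_self]; rfl
      · rw [hu.norm, sub_self])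
  letI : Algebra S0 S2 := ((algebraMap S1 S2).comp (algebraMap S0 S1)).toAlgebra
  haveI : IsScalarTower S0 S1 S2 := IsScalarTower.of_algebraMap_eq fun _ => rfl
  haveI : IsScalarTower S S0 S2 := IsScalarTower.of_algebraMap_eq fun x => by
    rw [IsScalarTower.algebraMap_apply S0 S1 S2, ← IsScalarTower.algebraMap_apply S S0 S1, ← IsScalarTower.algebraMap_apply]
  refine ⟨S2, inferInstance, inferInstance, inferInstance, inferInstance, hE,
    Module.FaithfullyFlat.trans S0 S1 S2, ⟨{
      G := GT S2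
      split := isSplitting_push _ hG1
      u := matU z
      ε := varE z
      form := ⟨?_, ?_, ?_⟩
      eq := eq_of_gens gen hgen _ _ fun i => ?_ }⟩⟩
  · refine IsUnit.of_mul_eq_one (matW z).det ?_
    rw [← Matrix.det_mul, show matU z * matW z = 1 from sub_eq_zero.1 (Matrix.ext fun i k => hz (Sum.inr (Sum.inl (i, k)))),
      Matrix.det_one]
  · exact sub_eq_zero.1 (Matrix.ext fun i k => hz (Sum.inr (Sum.inr (Sum.inl (i, k)))))
  · exact sub_eq_zero.1 (hz (Sum.inr (Sum.inr (Sum.inr ()))))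
  · exact sub_eq_zero.1 (Matrix.ext fun j k => hz (Sum.inl (i, j, k)))

end AzClass29
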