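import Groth.Agent.Lib.AzClass29.Models
import Groth.Agent.Lib.AzType29.Ram

/-!
# Signs of models and the dimension of the symmetric part
-/

set_option autoImplicit false
set_option linter.style.haveILetI false

universe u v w w' z

open TensorProduct Groth.Agent.Brauer25.SplitMap
open Module (rankAtStalk finrank)
open RInv29 (ctr ctr_mul ctr_one ctr_ctr det_ctr)

namespace AzClass29

set_option maxHeartbeats 1000000

variable {S : Type u} {R : Type v} [CommRing S] [CommRing R] [Algebra S R] {lam : R ≃ₐ[S] R}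

/-- a splitting cannot be larger than the degree -/
theorem size_le {B : Type w} [Ring B] [Algebra R B] [Module.Finite R B] [Module.Projective R B] {N M : ℕ}
    (hrk : ∀ p : PrimeSpectrum R, rankAtStalk (R := R) B p = N ^ 2) {X : Type z} [CommRing X] [Nontrivial X]
    [Algebra R X] (F : B →ₐ[R] Matrix (Fin M) (Fin M) X) (hF : IsSplitting F) : M ≤ N := by
  obtain ⟨q, hq⟩ := Ideal.exists_maximal X
  letI : Field (X ⧸ q) := Ideal.Quotient.field q
  have hs := ext_surjective (isSplitting_push (Ideal.Quotient.mkₐ R q) hF)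
  have h := LinearMap.finrank_range_le (ext (Groth.Agent.Brauer25.SplitMap.push (Ideal.Quotient.mkₐ R q) F)).toLinearMap
  erw [LinearMap.range_eq_top.2 hs] at h
  rw [finrank_top, Module.finrank_matrix, Fintype.card_fin, Module.finrank_self, mul_one] at h
  have h2 : finrank (X ⧸ q) ((X ⧸ q) ⊗[R] B) = N ^ 2 := by
    have := congrFun (Module.rankAtStalk_eq_finrank_of_free (R := X ⧸ q) (M := (X ⧸ q) ⊗[R] B)) ⟨⊥, Ideal.isPrime_bot⟩
    rw [Module.rankAtStalk_baseChange, hrk] at this
    simpa using this.symm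
  rw [h2, ← sq] at h
  exact (Nat.pow_le_pow_iff_left two_ne_zero).1 h

variable {A : Type w} [Ring A] [Algebra S A] [Algebra R A] [IsScalarTower S R A]
variable {A' : Type w'} [Ring A'] [Algebra S A'] [Algebra R A'] [IsScalarTower S R A']
variable {t : AzInv.LamInv R A lam} {t' : AzInv.LamInv R A' lam}

/-- matrix algebras that are locally isomorphic have models of the same sign -/
theorem sign_sub_mem (hl : Function.Involutive lam) (hfix : RInv.IsFixedRing S R lam.toRingEquiv)
    [Module.Finite R A] [Module.Projective R A] [Module.Finite R A'] [Module.Projective R A'] {n n' : ℕ}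
    (hn' : 0 < n') (hrk : ∀ p : PrimeSpectrum R, rankAtStalk (R := R) A p = n ^ 2)
    (hrk' : ∀ p : PrimeSpectrum R, rankAtStalk (R := R) A' p = n' ^ 2) {a b : ℕ} (hb : 0 < b)
    {S3 : Type u} [CommRing S3] [Algebra S S3]
    (f : S3 ⊗[S] Matrix (Fin a) (Fin a) A ≃ₐ[S3] S3 ⊗[S] Matrix (Fin b) (Fin b) A')
    (hfR : ∀ (r : R) (x : S3 ⊗[S] Matrix (Fin a) (Fin a) A),
      f (((1 : S3) ⊗ₜ[S] algebraMap R (Matrix (Fin a) (Fin a) A) r) * x) =
        ((1 : S3) ⊗ₜ[S] algebraMap R (Matrix (Fin b) (Fin b) A') r) * f x)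
    (hft : ∀ x : S3 ⊗[S] Matrix (Fin a) (Fin a) A,
      f ((t.matrix (Fin a)).bc S lam S3 x) = (t'.matrix (Fin b)).bc S lam S3 (f x))
    {T : Type u} [CommRing T] [Algebra S T] [Module.Flat S T] [IsLocalRing T] (φ : S3 →ₐ[S] T)
    (P : Rep lam t T n) (Q : Rep lam t' T n') (q : Ideal (R ⊗[S] T)) (hq : ∀ x, sg lam T x - x ∈ q) :
    P.ε - Q.ε ∈ q := by
  letI : Algebra T (R ⊗[S] T) := Algebra.TensorProduct.rightAlgebra
  haveI : Nontrivial (R ⊗[S] T) := RInv29.nontrivial (fixed_bar lam hl hfix T)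
  obtain ⟨hfa, hpa, hra⟩ := rank_matrix hrk a (a * n) rfl
  obtain ⟨hfb, hpb, hrb⟩ := rank_matrix hrk' b (b * n') rfl
  obtain ⟨Pa, -, -⟩ := exists_pullback f hfR hft φ (Q.matrix b (b * n') rfl)
  obtain ⟨Qb, -, -⟩ := exists_pullback f.symm
    (fun r x => f.injective (by rw [AlgEquiv.apply_symm_apply, hfR, AlgEquiv.apply_symm_apply]))
    (fun x => f.injective (by rw [AlgEquiv.apply_symm_apply, hft, AlgEquiv.apply_symm_apply])) φ
    (P.matrix a (a * n) rfl)
  have hN : a * n = b * n' := le_antisymm (size_le hrb Qb.G Qb.split) (size_le hra Pa.G Pa.split)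
  obtain ⟨P2, hu2, he2⟩ := exists_pullback f hfR hft φ (Q.matrix b (b * n') rfl)
  have hsim := Rep.sim _ hl hfix (Nat.mul_pos hb hn') (hN ▸ hra) (P.matrix a (b * n') hN) P2
  rw [hu2] at hsim
  exact sign_eq_of_sim (sg_sg lam hl T) (Nat.mul_pos hb hn') (P.matrix a (b * n') hN).form
    (Q.matrix b (b * n') rfl).form hsim q hq

omit [Algebra S A] [IsScalarTower S R A] [Algebra S A'] [IsScalarTower S R A'] in
/-- two models over an étale cover -/
theorem exists_reps (hl : Function.Involutive lam) (hfix : RInv.IsFixedRing S R lam.toRingEquiv) {n n' : ℕ}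
    (hn : 0 < n) (hn' : 0 < n') (hA : AzInv.IsAzumayaDeg R A n) (hA' : AzInv.IsAzumayaDeg R A' n')
    (t : AzInv.LamInv R A lam) (t' : AzInv.LamInv R A' lam) (S0 : Type u) [CommRing S0] [Algebra S S0]
    [Algebra.Etale S S0] [Module.FaithfullyFlat S S0] :
    ∃ (S1 : Type u) (_ : CommRing S1) (_ : Algebra S S1), Algebra.Etale S S1 ∧ Module.FaithfullyFlat S S1 ∧
      Nonempty (S0 →ₐ[S] S1) ∧ Nonempty (Rep lam t S1 n) ∧ Nonempty (Rep lam t' S1 n') := by
  obtain ⟨S4, _, _, _, _, hE4, hFF4, ⟨P⟩⟩ := exists_rep t hl hfix hn hA S0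
  haveI := hE4
  haveI : Module.FaithfullyFlat S S4 := Module.FaithfullyFlat.trans S S0 S4
  obtain ⟨S5, _, _, _, _, hE5, hFF5, ⟨Q⟩⟩ := exists_rep t' hl hfix hn' hA' S4
  exact ⟨S5, inferInstance, inferInstance, hE5, Module.FaithfullyFlat.trans S S4 S5,
    ⟨(IsScalarTower.toAlgHom S S4 S5).comp (IsScalarTower.toAlgHom S S0 S4)⟩,
    ⟨P.push (IsScalarTower.toAlgHom S S4 S5)⟩, ⟨Q⟩⟩

open scoped Classical in
/-- dimension of the symmetric part at a point with known sign -/
theorem finrank_span_sym {B : Type w} [Ring B] [Algebra R B] [Module.Finite R B] [Module.Projective R B]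
    {μ : R → R} (s0 : AzInv.LamInv R B μ) {n : ℕ}
    (hrk : ∀ p : PrimeSpectrum R, rankAtStalk (R := R) B p = n ^ 2) {k : Type v} [Field k] [Algebra R k]
    (hk : ∀ r, algebraMap R k (μ r) = algebraMap R k r) (h2 : IsUnit (2 : R))
    (L : Type z) [Field L] [Algebra k L] [Algebra R L] [IsScalarTower R k L]
    {F : B →ₐ[R] Matrix (Fin n) (Fin n) L} (hF : IsSplitting F) {u : Matrix (Fin n) (Fin n) L} {ε : L}
    (huu : IsUnit u.det) (hus : u.transpose = ε • u) (hue : ∀ b, F (s0 b) * u = u * (F b).transpose)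
    (hε : ε = 1 ∨ ε = -1) :
    finrank k (Submodule.span k (Set.range fun a : {a : B // s0 a = a} => (1 : k) ⊗ₜ[R] (a : B))) =
      if ε = 1 then Nat.choose (n + 1) 2 else Nat.choose n 2 := by
  classical
  let s : k ⊗[R] B →ₗ[k] k ⊗[R] B :=
    { toFun := AzType29.bcAdd k s0 hk
      map_add' := map_add _
      map_smul' := fun c x => (AzType29.bcInv k s0 hk).map_smul c x }
  have hs : ∀ c a, s (c ⊗ₜ a) = c ⊗ₜ s0 a := AzType29.bcAdd_tmul k s0 hk
  obtain ⟨w, hw⟩ := h2.exists_left_inv
  have hspan : Submodule.span k (Set.range fun a : {a : B // s0 a = a} => (1 : k) ⊗ₜ[R] (a : B)) =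
      LinearMap.ker (s + (-1 : k) • LinearMap.id) := by
    refine le_antisymm (Submodule.span_le.2 ?_) fun x hx => ?_
    · rintro _ ⟨⟨a, ha⟩, rfl⟩
      rw [SetLike.mem_coe, LinearMap.mem_ker, LinearMap.add_apply, LinearMap.smul_apply, LinearMap.id_apply,
        hs, ha, neg_one_smul, add_neg_cancel]
    · rw [LinearMap.mem_ker, LinearMap.add_apply, LinearMap.smul_apply, LinearMap.id_apply, neg_one_smul,
        ← sub_eq_add_neg, sub_eq_zero] at hx
      have hx2 : algebraMap R k w • (x + s x) = x := by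
        rw [hx, ← two_smul k x, smul_smul, ← map_ofNat (algebraMap R k) 2, ← map_mul, hw, map_one, one_smul]
      rw [← hx2]
      refine Submodule.smul_mem _ _ ?_
      clear hx hx2
      induction x using TensorProduct.induction_on with
      | zero => simp
      | add x y hx hy => rw [map_add, add_add_add_comm]; exact add_mem hx hy
      | tmul c a =>
        rw [hs, ← TensorProduct.tmul_add, show c ⊗ₜ[R] (a + s0 a) = c • ((1 : k) ⊗ₜ[R] (a + s0 a)) by
          rw [TensorProduct.smul_tmul', smul_eq_mul, mul_one]]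
        exact Submodule.smul_mem _ _ (Submodule.subset_span ⟨⟨a + s0 a, by rw [s0.map_add, s0.invol, add_comm]⟩, rfl⟩)
  let c := Groth.Agent.Azumaya.cancelBC R k L B
  let eF := AlgEquiv.ofBijective (ext F) (ext_bijective hrk hF)
  let e : L ⊗[k] (k ⊗[R] B) ≃ₐ[L] Matrix (Fin n) (Fin n) L := c.trans eF
  have hε2 : ε * ε = 1 := by rcases hε with rfl | rfl <;> simp
  have hS : (u⁻¹).transpose = ε • u⁻¹ := by
    rw [Matrix.transpose_nonsing_inv, hus]
    exact Matrix.inv_eq_left_inv (by
      rw [Matrix.smul_mul, Matrix.mul_smul, smul_smul, hε2, one_smul, Matrix.nonsing_inv_mul _ huu])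
  have htmul : ∀ (l : L) (a : B), e (l ⊗ₜ[k] ((1 : k) ⊗ₜ[R] a)) = l • F a := fun l a => by
    show ext F (c (l ⊗ₜ[k] ((1 : k) ⊗ₜ[R] a))) = _
    rw [show c (l ⊗ₜ[k] ((1 : k) ⊗ₜ[R] a)) = l ⊗ₜ[R] a by
      apply c.symm.injective
      rw [AlgEquiv.symm_apply_apply]
      simp only [c, Groth.Agent.Azumaya.cancelBC, AlgEquiv.symm_symm]
      exact (TensorProduct.AlgebraTensorModule.cancelBaseChange_symm_tmul R k L l a).symm, ext_tmul]
  have he : ∀ x, e (LinearMap.baseChange L s x) = (u⁻¹)⁻¹ * (e x).transpose * u⁻¹ := by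
    intro x
    rw [Matrix.nonsing_inv_nonsing_inv u huu]
    induction x using TensorProduct.induction_on with
    | zero => simp
    | add x y hx hy => simp only [map_add, hx, hy, Matrix.transpose_add, Matrix.mul_add, Matrix.add_mul]
    | tmul l z =>
      induction z using TensorProduct.induction_on with
      | zero => simp
      | add z z' hz hz' =>
        rw [LinearMap.baseChange_tmul] at hz hz' ⊢
        simp only [TensorProduct.tmul_add, map_add, hz, hz', Matrix.transpose_add, Matrix.mul_add, Matrix.add_mul]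
      | tmul d a =>
        rw [LinearMap.baseChange_tmul, show d ⊗ₜ[R] a = d • ((1 : k) ⊗ₜ[R] a) by
          rw [TensorProduct.smul_tmul', smul_eq_mul, mul_one], map_smul, hs, ← TensorProduct.smul_tmul,
          ← TensorProduct.smul_tmul, htmul, htmul, Matrix.transpose_smul, Matrix.mul_smul, Matrix.smul_mul,
          ← hue, Matrix.mul_nonsing_inv_cancel_right _ _ huu]
  have h := Groth.Agent.Brauer25.finrank_ker_eq L e u⁻¹
    ((Matrix.isUnit_iff_isUnit_det _).2 (Matrix.isUnit_nonsing_inv_det _ huu)) ε hε2 hS s he (-1)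
  rw [hspan, h]
  have h2L : (2 : L) ≠ 0 := by
    have := h2.map (algebraMap R L)
    rw [map_ofNat] at this
    exact this.ne_zero
  rcases hε with rfl | rfl
  · rw [if_pos rfl, map_neg, map_one, one_mul, show (-1 : L) • (LinearMap.id : Matrix (Fin n) (Fin n) L →ₗ[L] _) = -LinearMap.id from by ext; simp, ← sub_eq_add_neg,
      Groth.Agent.Brauer25.finrank_symmetric]
  · have hne : ¬ (-1 : L) = 1 := fun h => h2L (by linear_combination -h)
    rw [if_neg hne, map_neg, map_one, neg_one_mul, neg_neg, one_smul,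
      Groth.Agent.Brauer25.finrank_skew L h2L]

omit [Algebra S A] [IsScalarTower S R A] in
/-- the sign of a model at a ramified point is read off the dimension of the symmetric part -/
theorem sign_iff_finrank [Module.Finite R A] [Module.Projective R A] {n : ℕ} (hn : 0 < n)
    (hrk : ∀ p : PrimeSpectrum R, rankAtStalk (R := R) A p = n ^ 2) (h2 : IsUnit (2 : R))
    {T : Type u} [CommRing T] [Algebra S T] (P : Rep lam t T n) (q : Ideal (R ⊗[S] T)) [q.IsMaximal]
    (hq : ∀ x, sg lam T x - x ∈ q) (q0 : PrimeSpectrum R)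
    (h0 : q.comap (algebraMap R (R ⊗[S] T)) = q0.asIdeal) :
    (P.ε - 1 ∈ q ∨ P.ε + 1 ∈ q) ∧
      (finrank q0.asIdeal.ResidueField
          (Submodule.span q0.asIdeal.ResidueField
            (Set.range fun a : {a : A // t a = a} => (1 : q0.asIdeal.ResidueField) ⊗ₜ[R] (a : A))) =
          Nat.choose (n + 1) 2 ↔ P.ε - 1 ∈ q) := by
  letI : Field ((R ⊗[S] T) ⧸ q) := Ideal.Quotient.field q
  set π := Ideal.Quotient.mk q with hπ
  have hσ : ∀ x, π (sg lam T x) = π x := fun x => Ideal.Quotient.eq.2 (hq x)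
  have hε2 : π P.ε * π P.ε = 1 := by
    conv_lhs => arg 1; rw [← hσ]
    rw [← map_mul, P.form.norm, map_one]
  have hor : π P.ε = 1 ∨ π P.ε = -1 := mul_self_eq_one_iff.1 hε2
  have h1 : P.ε - 1 ∈ q ↔ π P.ε = 1 := by rw [← map_one π, hπ, Ideal.Quotient.eq]
  refine ⟨hor.imp h1.2 fun h => ?_, ?_⟩
  · rw [← Ideal.Quotient.eq_zero_iff_mem, map_add, ← hπ, h, map_one, neg_add_cancel]
  let f : R →+* (R ⊗[S] T) ⧸ q := π.comp (algebraMap R (R ⊗[S] T))
  have hf : ∀ r, f r = 0 ↔ r ∈ q0.asIdeal := fun r => by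
    rw [← h0, Ideal.mem_comap, ← Ideal.Quotient.eq_zero_iff_mem]; rfl
  let ι := Ideal.ResidueField.lift q0.asIdeal f (fun r hr => (hf r).2 hr)
    fun r hr => IsUnit.mk0 _ fun h => hr ((hf r).1 h)
  letI : Algebra q0.asIdeal.ResidueField ((R ⊗[S] T) ⧸ q) := ι.toAlgebra
  haveI : IsScalarTower R q0.asIdeal.ResidueField ((R ⊗[S] T) ⧸ q) :=
    IsScalarTower.of_algebraMap_eq fun r => (Ideal.ResidueField.lift_algebraMap q0.asIdeal f _ _ r).symm
  have hk : ∀ r, algebraMap R q0.asIdeal.ResidueField (lam r) = algebraMap R q0.asIdeal.ResidueField r := fun r => by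
    rw [← sub_eq_zero, ← map_sub, Ideal.algebraMap_residueField_eq_zero, ← h0, Ideal.mem_comap, map_sub,
      ← sg_algebraMap]
    exact hq _
  have hsym : ∀ M : Matrix (Fin n) (Fin n) (R ⊗[S] T), (ctr (sg lam T) M).map π = (M.map π).transpose := fun M => by
    ext i j; exact hσ (M j i)
  have hd := finrank_span_sym t hrk hk h2 ((R ⊗[S] T) ⧸ q)
    (isSplitting_push (Ideal.Quotient.mkₐ R q) P.split) (u := P.u.map π) (ε := π P.ε)
    (by rw [← RingHom.mapMatrix_apply, ← RingHom.map_det]; exact P.form.unit.map π)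
    (by rw [← hsym, P.form.symm]; ext i j; simp)
    (fun b => by
      rw [push_apply, push_apply]
      show (P.G (t b)).map π * P.u.map π = P.u.map π * ((P.G b).map π).transpose
      rw [← Matrix.map_mul, P.eq, Matrix.map_mul, hsym])
    hor
  rw [hd, h1]
  rcases hor with h | h
  · simp [h]
  · have h2L : (2 : (R ⊗[S] T) ⧸ q) ≠ 0 := by
      have := h2.map (algebraMap R ((R ⊗[S] T) ⧸ q))
      rw [map_ofNat] at this
      exact this.ne_zero
    have hne : ¬ π P.ε = 1 := fun h' => h2L (by rw [h] at h'; linear_combination -h')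
    rw [if_neg hne]
    refine iff_of_false (fun h => ?_) hne
    rw [show (n + 1).choose 2 = n + n.choose 2 by rw [Nat.choose_succ_succ', Nat.choose_one_right]] at h
    omega

end AzClass29
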