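import Groth.Agent.Lib.AzClass29.Signs

/-!
# Types of involutions: the main statements
-/

set_option autoImplicit false
set_option linter.style.haveILetI false

universe u v w w'

open TensorProduct Groth.Agent.Brauer25.SplitMap
open Module (rankAtStalk finrank)
open RInv29 (ctr ctr_mul ctr_one ctr_ctr det_ctr mem_jacobson_iff)

namespace AzClass29

set_option maxHeartbeats 1000000

variable {S : Type u} {R : Type v} [CommRing S] [CommRing R] [Algebra S R] {lam : R ≃ₐ[S] R}
variable {A : Type w} [Ring A] [Algebra S A] [Algebra R A] [IsScalarTower S R A]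
variable {A' : Type w'} [Ring A'] [Algebra S A'] [Algebra R A'] [IsScalarTower S R A']
variable {t : AzInv.LamInv R A lam} {t' : AzInv.LamInv R A' lam}

/-- same type in the same degree: locally isomorphic -/
theorem locIso_of_sameType (hl : Function.Involutive lam) (hfix : RInv.IsFixedRing S R lam.toRingEquiv)
    (hR : Roots S) {n : ℕ} (hn : 0 < n) (hcond : IsUnit (2 : S) ∨ RInv.IsQuadEtale S R ∨ Odd n)
    (hA : AzInv.IsAzumayaDeg R A n) (hA' : AzInv.IsAzumayaDeg R A' n) (h : AzInv.SameType S lam t t') :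
    AzInv.LocIsoEt S lam t t' := by
  obtain ⟨a, b, -, hb, S3, _, _, _, _, f, hfR, hft⟩ := h
  haveI := hA.1
  haveI := hA'.1
  obtain ⟨S1, _, _, hE, hFF, ⟨ψ⟩, ⟨P⟩, ⟨Q⟩⟩ := exists_reps hl hfix hn hn hA hA' t t' S3
  refine locIso_of_points hl hA.2 hA'.2 P Q fun T _ _ _ _ _ hroot φ => ?_
  exact sim_of_case hl hfix hR hroot (P.push φ).form (Q.push φ).form hcond fun _ hid =>
    mem_jacobson_iff.2 fun q hq => sign_sub_mem hl hfix hn hA.2 hA'.2 hb f hfR hft (φ.comp ψ)
      (P.push φ) (Q.push φ) q fun x => mem_jacobson_iff.1 (hid x) q hq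

omit [Algebra S A'] [IsScalarTower S R A'] in
theorem locIso_std (hl : Function.Involutive lam) (hfix : RInv.IsFixedRing S R lam.toRingEquiv) (hR : Roots S)
    [Module.Finite R A] [Module.Projective R A] {n : ℕ}
    (hrk : ∀ p : PrimeSpectrum R, rankAtStalk (R := R) A p = n ^ 2)
    (t1 : AzInv.LamInv R (Matrix (Fin n) (Fin n) R) lam) {w : Matrix (Fin n) (Fin n) R} {e : R}
    (hw : Form lam.toRingEquiv w e) (ht : ∀ M, t1 M * w = w * ctr lam.toRingEquiv M)
    {S1 : Type u} [CommRing S1] [Algebra S S1] [Algebra.Etale S S1] [Module.FaithfullyFlat S S1]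
    (P : Rep lam t S1 n) (hcase : IsUnit (2 : S) ∨ RInv.IsQuadEtale S R ∨ Odd n)
    (hsign : ∀ (T : Type u) [CommRing T] [Algebra S T] [Module.Flat S T] [HenselianLocalRing T]
      [IsSepClosed (IsLocalRing.ResidueField T)] (_ : Roots S → ∀ x : Tˣ, ∃ y : T, y * y = x) (φ : S1 →ₐ[S] T),
      IsUnit (2 : R ⊗[S] T) → (∀ x : R ⊗[S] T, sg lam T x - x ∈ Ring.jacobson (R ⊗[S] T)) →
      (P.push φ).ε - algebraMap R (R ⊗[S] T) e ∈ Ring.jacobson (R ⊗[S] T)) :
    AzInv.LocIsoEt S lam t t1 := by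
  obtain ⟨hf, hp, hr⟩ := rank_matrix (R := R) (A := R) (n := 1) (fun p => by
    haveI := p.nontrivial
    rw [Module.rankAtStalk_self]; simp) n n (mul_one n)
  refine locIso_of_points hl hrk hr P (stdRep S1 t1 hw ht) fun T _ _ _ _ _ hroot φ => ?_
  refine sim_of_case hl hfix hR hroot (P.push φ).form ((stdRep S1 t1 hw ht).push φ).form hcase fun h2 hid => ?_
  have he : ((stdRep S1 t1 hw ht).push φ).ε = algebraMap R (R ⊗[S] T) e := (bc R φ).commutes e
  rw [he]
  exact hsign T hroot φ h2 hid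

theorem form_one (n : ℕ) : Form lam.toRingEquiv (1 : Matrix (Fin n) (Fin n) R) 1 :=
  ⟨by simp, by rw [ctr_one, one_smul], by simp⟩

omit [Algebra S A] [IsScalarTower S R A] in
theorem exists_rep1 (hl : Function.Involutive lam) (hfix : RInv.IsFixedRing S R lam.toRingEquiv) {n : ℕ}
    (hn : 0 < n) (hA : AzInv.IsAzumayaDeg R A n) (t : AzInv.LamInv R A lam) :
    ∃ (S1 : Type u) (_ : CommRing S1) (_ : Algebra S S1), Algebra.Etale S S1 ∧ Module.FaithfullyFlat S S1 ∧
      Nonempty (Rep lam t S1 n) := by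
  obtain ⟨S1, _, _, hE, hFF, -, hP, -⟩ := exists_reps hl hfix hn hn hA hA t t S
  exact ⟨S1, inferInstance, inferInstance, hE, hFF, hP⟩

/-- the neutral type -/
theorem sameType_self (hl : Function.Involutive lam) (hfix : RInv.IsFixedRing S R lam.toRingEquiv) (hR : Roots S)
    {n : ℕ} (hn : 0 < n) (hcase : RInv.IsQuadEtale S R ∨ Odd n) (hA : AzInv.IsAzumayaDeg R A n)
    (t : AzInv.LamInv R A lam) : AzInv.SameType S lam t (AzInv.LamInv.self lam hl) := by
  haveI := hA.1
  refine ⟨1, n, one_pos, hn, ?_⟩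
  obtain ⟨S1, _, _, _, _, ⟨P0⟩⟩ := exists_rep1 hl hfix hn hA t
  obtain ⟨hf, hp, hr⟩ := rank_matrix hA.2 1 n (one_mul n)
  refine locIso_std hl hfix hR hr ((AzInv.LamInv.self lam hl).matrix (Fin n)) (form_one n) (fun M => ?_)
    (P0.matrix 1 n (one_mul n)) (Or.inr hcase) fun T _ _ _ _ _ hroot φ h2 hid => ?_
  · rw [Matrix.mul_one, Matrix.one_mul]
    ext i j
    rfl
  rw [map_one]
  letI : Algebra T (R ⊗[S] T) := Algebra.TensorProduct.rightAlgebra
  rcases hcase with hq | ho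
  · obtain ⟨a, ha⟩ := exists_notMem_of_quadEtale hl hfix hq T
    exact absurd (hid a) ha
  · have hF := ((P0.matrix 1 n (one_mul n)).push φ).form
    rcases sign_or (sg_sg lam hl T) (fixed_bar lam hl hfix T) hF.norm hid with h | h
    · exact h
    · exact absurd (sim_J_of_sign (sg_sg lam hl T) (fixed_bar lam hl hfix T) (hroot hR) hF h2 hid h).1
        (Nat.not_even_iff_odd.2 ho)

theorem tmul_algebraMap (T : Type u) [CommRing T] [Algebra S T] (s : S) :
    (1 : R) ⊗ₜ[S] algebraMap S T s = algebraMap R (R ⊗[S] T) (algebraMap S R s) := by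
  rw [Algebra.TensorProduct.algebraMap_apply, Algebra.algebraMap_self_apply, Algebra.algebraMap_eq_smul_one,
    Algebra.algebraMap_eq_smul_one, TensorProduct.tmul_smul, TensorProduct.smul_tmul']

omit [Algebra S A'] [IsScalarTower S R A'] [Algebra S A] [IsScalarTower S R A] in
/-- the sign as an idempotent of the base, when every point is ramified -/
theorem exists_sign_idem (hl : Function.Involutive lam) (hfix : RInv.IsFixedRing S R lam.toRingEquiv)
    [Module.Finite R A] [Module.Projective R A] {n : ℕ} (hn : 0 < n)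
    (hrk : ∀ p : PrimeSpectrum R, rankAtStalk (R := R) A p = n ^ 2) (h2 : IsUnit (2 : S))
    (hram : ∀ q : Ideal R, q.IsPrime → ∀ r, lam r - r ∈ q)
    {S1 : Type u} [CommRing S1] [Algebra S S1] [Algebra.Etale S S1] [Module.FaithfullyFlat S S1]
    (P : Rep lam t S1 n) :
    ∃ e : S, e * e = e ∧ ∀ (T : Type u) [CommRing T] [Algebra S T] [Module.Flat S T] [IsLocalRing T]
      (φ : S1 →ₐ[S] T), (P.push φ).ε - algebraMap R (R ⊗[S] T) (algebraMap S R (2 * e - 1)) ∈
        Ring.jacobson (R ⊗[S] T) := by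
  obtain ⟨c, hc⟩ := h2.exists_left_inv
  letI : Algebra S1 (R ⊗[S] S1) := Algebra.TensorProduct.rightAlgebra
  obtain ⟨hinj, hfx⟩ := fixed_bar lam hl hfix S1
  set C := algebraMap S (R ⊗[S] S1) (c * c) with hC
  have hC4 : 4 * C = 1 := by
    rw [hC, ← map_ofNat (algebraMap S (R ⊗[S] S1)) 4, ← map_mul,
      show (4 : S) * (c * c) = c * 2 * (c * 2) by ring, hc, one_mul, map_one]
  have hsub : ∀ {T : Type u} [CommRing T] [Algebra S T] (Q : Ideal (R ⊗[S] T)), Q.IsPrime →
      ∀ x, sg lam T x - x ∈ Q := fun {T} _ _ Q hQ x =>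
    sub_mem_of_forall Q (fun r => hram (Q.comap (algebraMap R (R ⊗[S] T))) inferInstance r) x
  set τ := C * (P.ε + sg lam S1 P.ε + 2) with hτ
  have hσC : sg lam S1 C = C := (bar lam S1).commutes (c * c)
  obtain ⟨e1, he1⟩ : τ ∈ Set.range (algebraMap S1 (R ⊗[S] S1)) := (hfx τ).1 (by
    rw [hτ, map_mul, map_add, map_add, map_ofNat, sg_sg lam hl S1 P.ε, hσC]; ring)
  have hnorm := P.form.norm
  have hnil : IsNilpotent (e1 * (e1 - 1)) := by
    refine (IsNilpotent.map_iff hinj).1 (nilpotent_iff_mem_prime.2 fun Q hQ => ?_)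
    rw [map_mul, map_sub, map_one, he1, show τ * (τ - 1) = C * C * ((sg lam S1 P.ε - P.ε) * (sg lam S1 P.ε - P.ε)) by
      rw [hτ]; linear_combination (C * (P.ε + sg lam S1 P.ε + 2) + C * 0) * hC4 + 4 * (C * C) * hnorm]
    exact Q.mul_mem_left _ (Q.mul_mem_left _ (hsub Q hQ P.ε))
  obtain ⟨e2, he2, he12⟩ := exists_isIdempotentElem_eq_of_ker_isNilpotent (Ideal.Quotient.mk (nilradical S1))
    (fun x hx => by rwa [Ideal.mk_ker, mem_nilradical] at hx) (Ideal.Quotient.mk _ e1) ⟨e1, rfl⟩ (by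
      rw [IsIdempotentElem, ← map_mul, Ideal.Quotient.eq, mem_nilradical,
        show e1 * e1 - e1 = e1 * (e1 - 1) by ring]
      exact hnil)
  have hd : IsNilpotent (e2 - e1) := mem_nilradical.1 (Ideal.Quotient.eq.1 he12)
  have key : ∀ (T : Type u) [CommRing T] [Algebra S T] (φ : S1 →ₐ[S] T) (q : Ideal (R ⊗[S] T)), q.IsMaximal →
      (P.push φ).ε - (2 * ((1 : R) ⊗ₜ[S] φ e2) - 1) ∈ q := by
    intro T _ _ φ q hq
    have hd' : ((1 : R) ⊗ₜ[S] φ e2 - (1 : R) ⊗ₜ[S] φ e1 : R ⊗[S] T) ∈ q := by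
      rw [← TensorProduct.tmul_sub, ← map_sub]
      exact nilpotent_iff_mem_prime.1
        ((hd.map φ).map (Algebra.TensorProduct.includeRight : T →ₐ[S] R ⊗[S] T)) q hq.isPrime
    have h1 : (1 : R) ⊗ₜ[S] φ e1 = bc R φ C * ((P.push φ).ε + sg lam T (P.push φ).ε + 2) := by
      have := congrArg (bc R φ) he1
      rw [hτ, map_mul, map_add, map_add, map_ofNat, show bc R φ (algebraMap S1 (R ⊗[S] S1) e1) =
        (1 : R) ⊗ₜ[S] φ e1 by exact (Algebra.TensorProduct.map_tmul _ _ _ _)] at this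
      rw [this, show bc R φ (sg lam S1 P.ε) = sg lam T (bc R φ P.ε) from bc_bar lam φ P.ε]
      rfl
    have h4 : 4 * bc R φ C = 1 := by rw [← map_ofNat (bc R φ) 4, ← map_mul, hC4, map_one]
    rw [show (P.push φ).ε - (2 * ((1 : R) ⊗ₜ[S] φ e2) - 1) =
        -2 * ((1 : R) ⊗ₜ[S] φ e2 - (1 : R) ⊗ₜ[S] φ e1) + -2 * bc R φ C * (sg lam T (P.push φ).ε - (P.push φ).ε) by
      linear_combination (-2 : R ⊗[S] T) * h1 - (1 + (P.push φ).ε) * h4]
    exact q.add_mem (q.mul_mem_left _ hd') (q.mul_mem_left _ (hsub q hq.isPrime _))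
  have heq : e2 ⊗ₜ[S] (1 : S1) = (1 : S1) ⊗ₜ[S] e2 := by
    let inl : S1 →ₐ[S] S1 ⊗[S] S1 := Algebra.TensorProduct.includeLeft
    let inr : S1 →ₐ[S] S1 ⊗[S] S1 := Algebra.TensorProduct.includeRight
    change inl e2 = inr e2
    haveI : Algebra.Etale S (S1 ⊗[S] S1) := Algebra.Etale.comp S S1 (S1 ⊗[S] S1)
    have hdn : IsNilpotent (inl e2 - inr e2) := nilpotent_iff_mem_prime.2 fun p hp => by
      obtain ⟨T, _, _, _, ψ, hflat, hsc, -, hmem⟩ := exists_point_at (S := S) (⟨p, hp⟩ : PrimeSpectrum (S1 ⊗[S] S1))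
      refine (hmem _).1 (by_contra fun hnot => ?_)
      have hu : IsUnit (ψ (inl e2) - ψ (inr e2)) := by
        rw [← map_sub]; exact not_not.1 fun h => hnot ((IsLocalRing.mem_maximalIdeal _).2 h)
      letI : Algebra T (R ⊗[S] T) := Algebra.TensorProduct.rightAlgebra
      haveI : Nontrivial (R ⊗[S] T) := RInv29.nontrivial (fixed_bar lam hl hfix T)
      obtain ⟨q, hq⟩ := Ideal.exists_maximal (R ⊗[S] T)
      have hs := sign_eq_of_sim (sg_sg lam hl T) hn (P.push (ψ.comp inl)).form (P.push (ψ.comp inr)).form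
        (Rep.sim t hl hfix hn hrk _ _) q (hsub q hq.isPrime)
      have h := q.sub_mem (q.sub_mem hs (key T (ψ.comp inl) q hq)) (q.neg_mem (key T (ψ.comp inr) q hq))
      refine hq.ne_top (Ideal.eq_top_of_isUnit_mem q h ?_)
      rw [show ((P.push (ψ.comp inl)).ε - (P.push (ψ.comp inr)).ε - ((P.push (ψ.comp inl)).ε -
          (2 * ((1 : R) ⊗ₜ[S] (ψ.comp inl) e2) - 1))) -
          -((P.push (ψ.comp inr)).ε - (2 * ((1 : R) ⊗ₜ[S] (ψ.comp inr) e2) - 1)) =
          2 * ((1 : R) ⊗ₜ[S] (ψ (inl e2) - ψ (inr e2))) by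
        simp only [AlgHom.comp_apply, TensorProduct.tmul_sub]; ring]
      refine IsUnit.mul ?_ (hu.map (Algebra.TensorProduct.includeRight : T →ₐ[S] R ⊗[S] T))
      have := h2.map (algebraMap S (R ⊗[S] T))
      rwa [map_ofNat] at this
    have hl2 : IsIdempotentElem (inl e2) := he2.map inl
    have hr2 : IsIdempotentElem (inr e2) := he2.map inr
    have h3 : (inl e2 - inr e2) * (1 - (inl e2 - inr e2) * (inl e2 - inr e2)) = 0 := by
      linear_combination (-(inl e2) - 1 + 3 * inr e2) * hl2.eq + (inr e2 + 1 - 3 * inl e2) * hr2.eq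
    have hu : IsUnit (1 - (inl e2 - inr e2) * (inl e2 - inr e2)) := by
      rw [← sq]; exact (hdn.pow_succ 1).isUnit_one_sub
    exact sub_eq_zero.1 (hu.mul_left_eq_zero.1 h3)
  obtain ⟨e, he⟩ := mem_range_of_eq heq
  refine ⟨e, algebraMap_injective_of_faithfullyFlat (S := S1) (by rw [map_mul, he, he2.eq]), fun T _ _ _ _ φ => ?_⟩
  refine mem_jacobson_iff.2 fun q hq => ?_
  have h := key T φ q hq
  rwa [← he, AlgHom.commutes, tmul_algebraMap, ← map_ofNat (algebraMap R (R ⊗[S] T)) 2,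
    ← map_ofNat (algebraMap S R) 2, ← map_mul, ← map_mul, ← map_one (algebraMap R (R ⊗[S] T)),
    ← map_one (algebraMap S R), ← map_sub, ← map_sub] at h

/-- local isomorphism with a standard involution -/
theorem exists_locIso_conj (hl : Function.Involutive lam) (hfix : RInv.IsFixedRing S R lam.toRingEquiv)
    (hR : Roots S)
    (hram : (IsUnit (2 : S) ∧ ∀ p : PrimeSpectrum S,
        ¬ RInv.IsQuadEtale (Localization.AtPrime p.asIdeal) (Localization.AtPrime p.asIdeal ⊗[S] R)) ∨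
      RInv.IsQuadEtale S R)
    {n : ℕ} (hn : 0 < n) (hA : AzInv.IsAzumayaDeg R A n) (t : AzInv.LamInv R A lam) :
    ∃ (w : (Matrix (Fin n) (Fin n) R)ˣ) (e : R)
      (hw : AzInv.LamInv.transpose lam (Fin n) hl (↑w : Matrix (Fin n) (Fin n) R) = e • (↑w : Matrix (Fin n) (Fin n) R))
      (he : lam e * e = 1),
      AzInv.LocIsoEt S lam t ((AzInv.LamInv.transpose lam (Fin n) hl).conj w e hw he) := by
  haveI := hA.1
  obtain ⟨S1, _, _, _, _, ⟨P⟩⟩ := exists_rep1 hl hfix hn hA t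
  have htr : ∀ M, AzInv.LamInv.transpose lam (Fin n) hl M = ctr lam.toRingEquiv M := fun M => rfl
  have build : ∀ (W : Matrix (Fin n) (Fin n) R) (e : R), Form lam.toRingEquiv W e →
      (IsUnit (2 : S) ∨ RInv.IsQuadEtale S R ∨ Odd n) →
      (∀ (T : Type u) [CommRing T] [Algebra S T] [Module.Flat S T] [HenselianLocalRing T]
        [IsSepClosed (IsLocalRing.ResidueField T)] (_ : Roots S → ∀ x : Tˣ, ∃ y : T, y * y = x) (φ : S1 →ₐ[S] T),
        IsUnit (2 : R ⊗[S] T) → (∀ x : R ⊗[S] T, sg lam T x - x ∈ Ring.jacobson (R ⊗[S] T)) →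
        (P.push φ).ε - algebraMap R (R ⊗[S] T) e ∈ Ring.jacobson (R ⊗[S] T)) →
      ∃ (w : (Matrix (Fin n) (Fin n) R)ˣ) (e : R)
      (hw : AzInv.LamInv.transpose lam (Fin n) hl (↑w : Matrix (Fin n) (Fin n) R) = e • (↑w : Matrix (Fin n) (Fin n) R))
      (he : lam e * e = 1),
      AzInv.LocIsoEt S lam t ((AzInv.LamInv.transpose lam (Fin n) hl).conj w e hw he) := by
    intro W e hW hcase hsign
    refine ⟨((Matrix.isUnit_iff_isUnit_det _).2 hW.unit).unit, e, (htr W).trans hW.symm, hW.norm,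
      locIso_std hl hfix hR hA.2 _ hW (fun M => ?_) P hcase hsign⟩
    rw [AzInv.LamInv.conj_apply, htr]
    simp only [Matrix.mul_assoc]
    congr 1
    rw [IsUnit.val_inv_mul, Matrix.mul_one]
  by_cases ho : Odd n
  · refine build 1 1 (form_one n) (Or.inr (Or.inr ho)) fun T _ _ _ _ _ hroot φ h2 hid => ?_
    rw [map_one]
    letI : Algebra T (R ⊗[S] T) := Algebra.TensorProduct.rightAlgebra
    rcases sign_or (sg_sg lam hl T) (fixed_bar lam hl hfix T) (P.push φ).form.norm hid with h | h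
    · exact h
    · exact absurd (sim_J_of_sign (sg_sg lam hl T) (fixed_bar lam hl hfix T) (hroot hR) (P.push φ).form h2 hid h).1
        (Nat.not_even_iff_odd.2 ho)
  rcases hram with ⟨h2, hram⟩ | hq
  swap
  · refine build 1 1 (form_one n) (Or.inr (Or.inl hq)) fun T _ _ _ _ _ _ φ _ hid => ?_
    obtain ⟨a, ha⟩ := exists_notMem_of_quadEtale hl hfix hq T
    exact absurd (hid a) ha
  obtain ⟨m, hm⟩ := Nat.not_odd_iff_even.1 ho
  obtain rfl : n = 2 * m := by omega
  have hram' : ∀ q : Ideal R, q.IsPrime → ∀ r, lam r - r ∈ q := fun q hq r =>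
    (RInv29.not_isQuadEtale_iff (lam := lam.toRingEquiv) hl hfix (q.comap (algebraMap S R))).1
      (hram ⟨q.comap (algebraMap S R), inferInstance⟩) q hq rfl r
  obtain ⟨e, hee, hsign⟩ := exists_sign_idem hl hfix hn hA.2 h2 hram' P
  set E := algebraMap S R e with hEdef
  have hEE : E * E = E := by rw [hEdef, ← map_mul, hee]
  have hlE : ∀ s : S, lam.toRingEquiv (algebraMap S R s) = algebraMap S R s := fun s => lam.commutes s
  refine build (E • 1 + (1 - E) • stdJn R (2 * m)) (algebraMap S R (2 * e - 1)) ⟨?_, ?_, ?_⟩ (Or.inl h2)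
    fun T _ _ _ _ _ _ φ _ _ => hsign T φ
  · refine IsUnit.of_mul_eq_one (E • 1 + (1 - E) • (stdJn R (2 * m))⁻¹).det ?_
    rw [← Matrix.det_mul]
    convert Matrix.det_one (n := Fin (2 * m)) (R := R)
    simp only [Matrix.add_mul, Matrix.mul_add, Matrix.smul_mul, Matrix.mul_smul, Matrix.one_mul, Matrix.mul_one,
      Matrix.mul_nonsing_inv _ (isUnit_det_stdJn (E := R) m), smul_add, smul_smul]
    rw [show E * (1 - E) = 0 by linear_combination -hEE, show (1 - E) * E = 0 by linear_combination -hEE,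
      show (1 - E) * (1 - E) = 1 - E by linear_combination hEE, hEE, zero_smul, zero_smul, add_zero, zero_add,
      ← add_smul, add_sub_cancel, one_smul]
  · have hadd : ∀ M N : Matrix (Fin (2 * m)) (Fin (2 * m)) R,
        ctr lam.toRingEquiv (M + N) = ctr lam.toRingEquiv M + ctr lam.toRingEquiv N := fun M N => by
      ext i j; simp [ctr]
    rw [hadd, ctr_smul, ctr_smul, ctr_one, ctr_stdJn, smul_add, smul_smul, smul_smul, smul_smul, map_sub, map_one,
      hlE, map_sub, map_mul, map_ofNat, map_one, ← hEdef]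
    congr 2 <;> first | linear_combination (-2 : R) * hEE | linear_combination (2 : R) * hEE
  · rw [hlE, ← map_mul, show (2 * e - 1) * (2 * e - 1) = 1 by linear_combination 4 * hee, map_one]

omit [Algebra S A'] [IsScalarTower S R A'] [Algebra S A] [IsScalarTower S R A] in
theorem finrank_iff_at_point {n n' : ℕ} (hn : 0 < n) (hn' : 0 < n') [Module.Finite R A] [Module.Projective R A]
    [Module.Finite R A'] [Module.Projective R A']
    (hrk : ∀ p : PrimeSpectrum R, rankAtStalk (R := R) A p = n ^ 2)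
    (hrk' : ∀ p : PrimeSpectrum R, rankAtStalk (R := R) A' p = n' ^ 2) (h2 : IsUnit (2 : R))
    {T : Type u} [CommRing T] [Algebra S T] (P : Rep lam t T n) (Q : Rep lam t' T n') (q : Ideal (R ⊗[S] T))
    [q.IsMaximal] (hq : ∀ x, sg lam T x - x ∈ q) (q0 : PrimeSpectrum R)
    (h0 : q.comap (algebraMap R (R ⊗[S] T)) = q0.asIdeal) :
    (finrank q0.asIdeal.ResidueField (Submodule.span q0.asIdeal.ResidueField
            (Set.range fun a : {a : A // t a = a} => (1 : q0.asIdeal.ResidueField) ⊗ₜ[R] (a : A))) =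
          Nat.choose (n + 1) 2 ↔
      finrank q0.asIdeal.ResidueField (Submodule.span q0.asIdeal.ResidueField
            (Set.range fun a : {a : A' // t' a = a} => (1 : q0.asIdeal.ResidueField) ⊗ₜ[R] (a : A'))) =
          Nat.choose (n' + 1) 2) ↔ P.ε - Q.ε ∈ q := by
  obtain ⟨ho, hi⟩ := sign_iff_finrank hn hrk h2 P q hq q0 h0
  obtain ⟨ho', hi'⟩ := sign_iff_finrank hn' hrk' h2 Q q hq q0 h0
  have htwo : IsUnit (2 : R ⊗[S] T) := by
    have := h2.map (algebraMap R (R ⊗[S] T))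
    rwa [map_ofNat] at this
  have hne : ∀ x : R ⊗[S] T, x - 1 ∈ q → x + 1 ∈ q → False := fun x h h' => by
    have := q.sub_mem h' h
    rw [show x + 1 - (x - 1) = 2 by ring] at this
    exact Ideal.IsMaximal.ne_top ‹_› (Ideal.eq_top_of_isUnit_mem q this htwo)
  rw [hi, hi']
  constructor
  · intro h
    rcases ho with h1 | h1
    · have := q.sub_mem h1 (h.1 h1)
      rwa [show P.ε - 1 - (Q.ε - 1) = P.ε - Q.ε by ring] at this
    · have := q.sub_mem h1 (ho'.resolve_left fun h' => hne _ (h.2 h') h1)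
      rwa [show P.ε + 1 - (Q.ε + 1) = P.ε - Q.ε by ring] at this
  · intro h
    refine ⟨fun h1 => ?_, fun h1 => ?_⟩
    · have := q.sub_mem h1 h
      rwa [show P.ε - 1 - (P.ε - Q.ε) = Q.ε - 1 by ring] at this
    · have := q.add_mem h1 h
      rwa [show Q.ε - 1 + (P.ε - Q.ε) = P.ε - 1 by ring] at this

/-- same type is detected on the ramification locus -/
theorem sameType_iff (hl : Function.Involutive lam) (hfix : RInv.IsFixedRing S R lam.toRingEquiv)
    (h2 : IsUnit (2 : S)) {n n' : ℕ} (hn : 0 < n) (hn' : 0 < n') (hA : AzInv.IsAzumayaDeg R A n)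
    (hA' : AzInv.IsAzumayaDeg R A' n') :
    AzInv.SameType S lam t t' ↔
      ∀ q : PrimeSpectrum R, (∀ r : R, lam r - r ∈ q.asIdeal) →
        (finrank q.asIdeal.ResidueField
            (Submodule.span q.asIdeal.ResidueField
              (Set.range fun a : {a : A // t a = a} => (1 : q.asIdeal.ResidueField) ⊗ₜ[R] (a : A))) = Nat.choose (n + 1) 2 ↔
          finrank q.asIdeal.ResidueField
            (Submodule.span q.asIdeal.ResidueField
              (Set.range fun a : {a : A' // t' a = a} => (1 : q.asIdeal.ResidueField) ⊗ₜ[R] (a : A'))) = Nat.choose (n' + 1) 2) := by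
  haveI := hA.1
  haveI := hA'.1
  have h2R : IsUnit (2 : R) := by
    have := h2.map (algebraMap S R)
    rwa [map_ofNat] at this
  constructor
  · rintro ⟨a, b, -, hb, S3, _, _, _, _, f, hfR, hft⟩ q0 hq0
    obtain ⟨S1, _, _, hE, hFF, ⟨ψ⟩, ⟨P⟩, ⟨Q⟩⟩ := exists_reps hl hfix hn hn' hA hA' t t' S3
    obtain ⟨p1, hp1⟩ := PrimeSpectrum.comap_surjective_of_faithfullyFlat (A := S) (B := S1)
      (PrimeSpectrum.comap (algebraMap S R) q0)
    obtain ⟨T, _, _, _, φ, hflat, -, -, hmem⟩ := exists_point_at (S := S) p1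
    letI : Algebra T (R ⊗[S] T) := Algebra.TensorProduct.rightAlgebra
    have hfT := fixed_bar lam hl hfix T
    haveI : Nontrivial (R ⊗[S] T) := RInv29.nontrivial hfT
    obtain ⟨q, hq⟩ := Ideal.exists_maximal (R ⊗[S] T)
    have hqT := RInv29.comap_maximal (sg_sg lam hl T) hfT q
    have h0 : q.comap (algebraMap R (R ⊗[S] T)) = q0.asIdeal := by
      haveI : (q.comap (algebraMap R (R ⊗[S] T))).IsPrime := Ideal.comap_isPrime _ _
      refine RInv29.over_unique (lam := lam.toRingEquiv) hl hfix q0.asIdeal _ ?_ hq0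
      ext s
      have h1 : (φ (algebraMap S S1 s) ∈ IsLocalRing.maximalIdeal T) ↔ algebraMap S S1 s ∈ p1.asIdeal := hmem _
      rw [Ideal.mem_comap, Ideal.mem_comap, ← tmul_algebraMap]
      rw [AlgHom.commutes, ← hqT, Ideal.mem_comap] at h1
      exact h1.trans (SetLike.ext_iff.1 (congrArg PrimeSpectrum.asIdeal hp1) s)
    have hsub : ∀ x, sg lam T x - x ∈ q := sub_mem_of_forall q fun r => by
      have := hq0 r
      rwa [← h0] at this
    exact (finrank_iff_at_point hn hn' hA.2 hA'.2 h2R (P.push φ) (Q.push φ) q hsub q0 h0).2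
      (sign_sub_mem hl hfix hn' hA.2 hA'.2 hb f hfR hft (φ.comp ψ) (P.push φ) (Q.push φ) q hsub)
  · intro h
    refine ⟨n', n, hn', hn, ?_⟩
    obtain ⟨S1, _, _, hE, hFF, -, ⟨P⟩, ⟨Q⟩⟩ := exists_reps hl hfix hn hn' hA hA' t t' S
    obtain ⟨_, _, hr⟩ := rank_matrix hA.2 n' (n * n') (mul_comm n' n)
    obtain ⟨_, _, hr'⟩ := rank_matrix hA'.2 n (n * n') rfl
    refine locIso_of_points hl hr hr' (P.matrix n' (n * n') (mul_comm n' n)) (Q.matrix n (n * n') rfl)
      fun T _ _ _ _ _ hroot φ => ?_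
    refine sim_of_case hl hfix (roots_of_two h2) hroot ((P.matrix n' (n * n') (mul_comm n' n)).push φ).form
      ((Q.matrix n (n * n') rfl).push φ).form (Or.inl h2) fun _ hid => mem_jacobson_iff.2 fun q hq => ?_
    have hsub : ∀ x, sg lam T x - x ∈ q := fun x => mem_jacobson_iff.1 (hid x) q hq
    have hp : (q.comap (algebraMap R (R ⊗[S] T))).IsPrime := Ideal.comap_isPrime _ _
    exact (finrank_iff_at_point hn hn' hA.2 hA'.2 h2R (P.push φ) (Q.push φ) q hsub ⟨_, hp⟩ rfl).1
      (h ⟨_, hp⟩ fun r => by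
        rw [Ideal.mem_comap, map_sub, ← sg_algebraMap]
        exact hsub _)

end AzClass29
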